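import Cfsg.Agent.H330.Gow
import Cfsg.Agent.S0165
import Cfsg.Agent.S0205
import Cfsg.Agent.H459.Iface
import Cfsg.Agent.H459.Inv.Base

/-!
# A variant of Gow's theorem: products which are `r`-elements (helper255, S3830)

`K` a finite group with an abelian split (B, N)-pair and local characteristic `r` (a group of Lie type of characteristic
`r`), `x ∈ K` with centraliser of order prime to `r`, `y ≠ 1` of order prime to `r`:

* `exists_runip` : some product of a conjugate of `x` and a conjugate of `y` is an `r`-element;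
* `ns_of_split` : `r ≠ 2`, `x` of odd order prime to `r`, `y` an involution: `⟨x, y ^ g⟩` is not solvable for some `g`.
-/

set_option autoImplicit false

namespace Cfsg.Agent.H255.Inv

open Cfsg Subgroup
open Cfsg.Agent.BpLieP.Big (LocChar)
open Cfsg.Agent.Omega.ML.LieRow.CRB (HasSplitAb)
open Cfsg.Agent.H330 Cfsg.Agent.H330.Gow
open scoped ComplexConjugate

/-- the sum of a character over a subgroup -/
theorem exists_sum_subgroup {G : Type*} [Group G] [Finite G] {χ : G → ℂ} (hχ : IsIrrCharacter G χ) (P : Subgroup G)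
    [Fintype P] : ∃ m : ℕ, ∑ z : P, conj (χ z) = (Nat.card P : ℂ) * m := by
  obtain ⟨n, ρ, hρ, rfl⟩ := hχ
  have h1 : IsCharacter P (ρ.character ∘ P.subtype) :=
    Cfsg.Agent.Characters.Core.isCharacter_comp P.subtype ⟨n, ρ, rfl⟩
  obtain ⟨m, hm⟩ := Cfsg.Agent.Characters.Core.classInner_isNat (G := P) Cfsg.Agent.Characters.Core.isCharacter_one h1
  refine ⟨m, ?_⟩
  have hc : (Nat.card P : ℂ) ≠ 0 := by exact_mod_cast Nat.card_pos.ne'
  rw [← hm, Cfsg.Agent.Characters.Core.classInner_def, ← mul_assoc, mul_inv_cancel₀ hc, one_mul]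
  simp

/-- **Products which are `p`-elements.** -/
theorem exists_runip {K : Type*} [Group K] [Finite K] {p : ℕ} [Fact p.Prime] (hS : HasSplitAb p K)
    (hL : LocChar p K) (hcen : center K = ⊥) (hperf : commutator K = ⊤) {x y : K}
    (hx : ¬ p ∣ Nat.card ↥(centralizer ({x} : Set K))) (hy : y ≠ 1) (hyr : ¬ p ∣ orderOf y) :
    ∃ (g h : K) (k : ℕ), (g * x * g⁻¹ * (h * y * h⁻¹)) ^ p ^ k = 1 := by
  classical
  have hp : p.Prime := Fact.out
  have : Fintype (IrrCharacter K) := @Fintype.ofFinite _ S0909.finite_irr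
  obtain ⟨M, hM⟩ := Blocks.ExistsModular.exists_isPModular hp
  have hMp := Blocks.Local.isPrime_of_isPModular hM
  have hdvd := dvd_card (hasSplit_of_ab hS)
  obtain ⟨χ, hχ, hχ1, hχv⟩ := GowSt.exists_st_of_hasSplit (hasSplit_of_ab hS)
  let st : IrrCharacter K := ⟨χ, hχ⟩
  have hdeg : charDegree χ = p ^ (Nat.card K).factorization p := Blocks.Basic.charDegree_of_eq hχ1
  have hst : ¬ p ∣ Nat.card K / charDegree (st : K → ℂ) := by
    rw [H143.ChevBlocks.not_dvd_iff st.2]
    show _ ≤ (charDegree χ).factorization p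
    rw [hdeg, hp.factorization_pow]
    simp
  have huniq : ∀ ψ : IrrCharacter K, ¬ p ∣ Nat.card K / charDegree (ψ : K → ℂ) → ψ = st := fun ψ hψ =>
    GowOne.unique_of_hasSplitAb hS hperf ψ st hψ hst
  by_contra hcon
  push Not at hcon
  obtain ⟨P⟩ : Nonempty (Sylow p K) := inferInstance
  have : Fintype (P : Subgroup K) := Fintype.ofFinite _
  -- no product lies in `P`
  have hsum1 : ∀ u : (P : Subgroup K),
      ∑ ψ : IrrCharacter K, (ψ : K → ℂ) x * centralChar (ψ : K → ℂ) y * conj ((ψ : K → ℂ) u) = 0 := by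
    intro u
    obtain ⟨k, hk⟩ := P.isPGroup' u
    have hk' : (u : K) ^ p ^ k = 1 := by
      have := congrArg Subtype.val hk
      simpa using this
    have hcount : Nat.card {q : K × K // q.1 * x * q.1⁻¹ * (q.2 * y * q.2⁻¹) = (u : K)} = 0 := by
      have : IsEmpty {q : K × K // q.1 * x * q.1⁻¹ * (q.2 * y * q.2⁻¹) = (u : K)} :=
        ⟨fun q => hcon q.1.1 q.1.2 k (by rw [q.2, hk'])⟩
      exact Nat.card_of_isEmpty
    have hsum := Characters.ClassMul.card_conj_mul_conj x y (u : K)
    rw [hcount, Nat.cast_zero] at hsum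
    have hc0 : (Nat.card K : ℂ) ≠ 0 := by exact_mod_cast Nat.card_pos.ne'
    have hsum0 := (mul_eq_zero.1 hsum.symm).resolve_left hc0
    have h1 : ∀ ψ : IrrCharacter K, (ψ : K → ℂ) x * centralChar (ψ : K → ℂ) y * conj ((ψ : K → ℂ) u) =
        ((centralizer ({y} : Set K)).index : ℂ) *
          ((ψ : K → ℂ) x * (ψ : K → ℂ) y * conj ((ψ : K → ℂ) u) / (ψ : K → ℂ) 1) := by
      intro ψ
      unfold centralChar
      ring
    rw [Finset.sum_congr rfl fun ψ _ => h1 ψ, ← Finset.mul_sum, hsum0, mul_zero]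
  -- the multiplicities
  have hm : ∀ ψ : IrrCharacter K, ∃ m : ℕ, ∑ u : (P : Subgroup K), conj ((ψ : K → ℂ) u) =
      (Nat.card (P : Subgroup K) : ℂ) * m := fun ψ => exists_sum_subgroup ψ.2 _
  choose m hm using hm
  have hP0 : (Nat.card (P : Subgroup K) : ℂ) ≠ 0 := by exact_mod_cast Nat.card_pos.ne'
  have hsum2 : ∑ ψ : IrrCharacter K, (m ψ : ℂ) * ((ψ : K → ℂ) x * centralChar (ψ : K → ℂ) y) = 0 := by
    have h1 : ∑ u : (P : Subgroup K),
        ∑ ψ : IrrCharacter K, (ψ : K → ℂ) x * centralChar (ψ : K → ℂ) y * conj ((ψ : K → ℂ) u) = 0 :=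
      Finset.sum_eq_zero fun u _ => hsum1 u
    rw [Finset.sum_comm] at h1
    have h2 : ∀ ψ : IrrCharacter K,
        ∑ u : (P : Subgroup K), (ψ : K → ℂ) x * centralChar (ψ : K → ℂ) y * conj ((ψ : K → ℂ) u) =
        (Nat.card (P : Subgroup K) : ℂ) * ((m ψ : ℂ) * ((ψ : K → ℂ) x * centralChar (ψ : K → ℂ) y)) := by
      intro ψ
      rw [← Finset.mul_sum, hm ψ]
      ring
    rw [Finset.sum_congr rfl fun ψ _ => h2 ψ, ← Finset.mul_sum] at h1
    exact (mul_eq_zero.1 h1).resolve_left hP0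
  -- the Steinberg character
  have hmst : m st = 1 := by
    have h1 : ∑ u : (P : Subgroup K), conj (χ u) = conj (χ 1) := by
      rw [← Finset.sum_subset (Finset.subset_univ {(1 : (P : Subgroup K))})]
      · rw [Finset.sum_singleton]; rfl
      · intro u _ hu
        have hu1 : u ≠ 1 := by simpa using hu
        have h2 : p ∣ orderOf (u : K) := by
          obtain ⟨k, hk⟩ := P.isPGroup' u
          have h3 : orderOf u ∣ p ^ k := orderOf_dvd_of_pow_eq_one hk
          obtain ⟨j, -, hj⟩ := (Nat.dvd_prime_pow hp).1 h3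
          rw [Subgroup.orderOf_coe, hj]
          refine dvd_pow_self p ?_
          rintro rfl
          rw [pow_zero] at hj
          exact hu1 (orderOf_eq_one_iff.1 hj)
        have h3 : χ u = 0 := by
          obtain ⟨n, ρ, hρ, rfl⟩ := hχ
          refine Cfsg.Agent.S0165.result ρ p ((Nat.card K).factorization p) hp (Nat.ordProj_dvd _ _)
            (Nat.pow_succ_factorization_not_dvd Nat.card_pos.ne' hp) ?_ _ h2
          rw [Representation.char_one] at hχ1
          have h4 : Module.finrank ℂ (Fin n → ℂ) = p ^ (Nat.card K).factorization p := by exact_mod_cast hχ1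
          rw [h4]
        rw [h3, map_zero]
    have h2 := hm st
    have h3 : ∑ u : (P : Subgroup K), conj ((st : K → ℂ) u) = conj (χ 1) := h1
    rw [h3, hχ1, Complex.conj_natCast, P.card_eq_multiplicity] at h2
    have h4 : ((p ^ (Nat.card K).factorization p : ℕ) : ℂ) ≠ 0 := by
      exact_mod_cast pow_ne_zero _ hp.ne_zero
    have h5 : (m st : ℂ) = 1 := by
      have h6 : ((p ^ (Nat.card K).factorization p : ℕ) : ℂ) * 1 =
          ((p ^ (Nat.card K).factorization p : ℕ) : ℂ) * (m st : ℂ) := by rw [mul_one]; exact h2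
      exact (mul_left_cancel₀ h4 h6).symm
    exact_mod_cast h5
  have hmem : ∀ ψ : IrrCharacter K, ψ ≠ st →
      MemLocalIdeal M ((m ψ : ℂ) * ((ψ : K → ℂ) x * centralChar (ψ : K → ℂ) y)) := by
    intro ψ hψ
    rw [← mul_assoc]
    refine Blocks.Local.memLocalIdeal_mul_left ?_
      (GowBlock.centralChar_mem hM hdvd hL hcen st hst huniq ψ hψ hy hyr)
    refine Blocks.Local.memLocalRing_of_isIntegral (IsIntegral.mul ?_ (CharactersDeep.ModCongr.isIntegral_irr ψ.2 x))
    have := isIntegral_algebraMap (R := ℤ) (A := ℂ) (x := (m ψ : ℤ))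
    simpa using this
  have hstm : MemLocalIdeal M ((m st : ℂ) * ((st : K → ℂ) x * centralChar (st : K → ℂ) y)) := by
    have h1 : (m st : ℂ) * ((st : K → ℂ) x * centralChar (st : K → ℂ) y) =
        - ∑ ψ ∈ Finset.univ.erase st, (m ψ : ℂ) * ((ψ : K → ℂ) x * centralChar (ψ : K → ℂ) y) := by
      rw [eq_neg_iff_add_eq_zero]
      rw [← Finset.add_sum_erase Finset.univ
        (fun ψ : IrrCharacter K => (m ψ : ℂ) * ((ψ : K → ℂ) x * centralChar (ψ : K → ℂ) y))
        (Finset.mem_univ st)] at hsum2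
      exact hsum2
    rw [h1]
    refine Blocks.Local.memLocalIdeal_neg (Blocks.Local.memLocalIdeal_sum fun ψ hψ => ?_)
    exact hmem ψ (Finset.ne_of_mem_erase hψ)
  rw [hmst, Nat.cast_one, one_mul] at hstm
  -- the value at the elements with centraliser of order prime to `p`
  have hval : ∀ w : K, ¬ p ∣ Nat.card ↥(centralizer ({w} : Set K)) → χ w = 1 ∨ χ w = -1 := by
    intro w hw
    have h1 : ¬ p ∣ orderOf w := by
      intro h
      apply hw
      refine h.trans ?_
      have h2 : w ∈ centralizer ({w} : Set K) := mem_centralizer_singleton_iff.2 rfl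
      rw [← orderOf_mk w h2]
      exact orderOf_dvd_natCard _
    have h3 := hχv w h1
    rw [Nat.factorization_eq_zero_of_not_dvd hw, pow_zero, Nat.cast_one] at h3
    exact h3
  obtain ⟨n, hn, hω⟩ : ∃ n : ℕ, ¬ p ∣ n ∧ (centralChar χ y = (n : ℂ) ∨ centralChar χ y = -(n : ℂ)) := by
    have h1 := (centralizer ({y} : Set K)).card_mul_index
    have hi0 : (centralizer ({y} : Set K)).index ≠ 0 := Subgroup.index_ne_zero_of_finite
    have hfac : (Nat.card K).factorization p = (Nat.card ↥(centralizer ({y} : Set K))).factorization p +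
        (centralizer ({y} : Set K)).index.factorization p := by
      rw [← h1, Nat.factorization_mul Nat.card_pos.ne' hi0]
      rfl
    refine ⟨ordCompl[p] (centralizer ({y} : Set K)).index, Nat.not_dvd_ordCompl hp hi0, ?_⟩
    have h2 : ((centralizer ({y} : Set K)).index : ℂ) =
        (p : ℂ) ^ (centralizer ({y} : Set K)).index.factorization p *
          ((ordCompl[p] (centralizer ({y} : Set K)).index : ℕ) : ℂ) := by
      rw [← Nat.cast_pow, ← Nat.cast_mul, Nat.ordProj_mul_ordCompl_eq_self]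
    have hp0 : (p : ℂ) ≠ 0 := by exact_mod_cast hp.ne_zero
    unfold centralChar
    rcases hχv y hyr with h3 | h3
    · left
      rw [h3, hχ1, hfac, h2, pow_add, Nat.cast_mul, Nat.cast_pow, Nat.cast_pow]
      field_simp
    · right
      rw [h3, hχ1, hfac, h2, pow_add, Nat.cast_mul, Nat.cast_pow, Nat.cast_pow]
      field_simp
  have hmm : MemLocalIdeal M (n : ℂ) := by
    have h1 : MemLocalIdeal M (χ x * centralChar χ y) := hstm
    rcases hval x hx with h2 | h2 <;> rcases hω with h4 | h4 <;>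
      rw [h2, h4] at h1 <;> simpa [Blocks.Local.memLocalIdeal_neg_iff] using h1
  exact hn ((Blocks.Local.memLocalIdeal_natCast_iff hM n).1 hmm)

/-- **Non-solvable groups generated by `x` and an involution.** -/
theorem not_solvable_of_split {K : Type*} [Group K] [Finite K] {r : ℕ} [Fact r.Prime] (hr : r ≠ 2)
    (hS : HasSplitAb r K) (hL : LocChar r K) (hcen : center K = ⊥) (hperf : commutator K = ⊤) {x y : K}
    (hx : ¬ r ∣ Nat.card ↥(centralizer ({x} : Set K))) (hx1 : x ≠ 1) (hxo : Odd (orderOf x)) (hy : orderOf y = 2) :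
    ∃ g : K, ¬ Group.IsSolvable ↥(closure ({x, g * y * g⁻¹} : Set K)) := by
  have hrp : r.Prime := Fact.out
  have hy1 : y ≠ 1 := by
    rintro rfl
    simp at hy
  have hyr : ¬ r ∣ orderOf y := by
    rw [hy]
    intro h
    exact hr ((Nat.prime_dvd_prime_iff_eq hrp Nat.prime_two).1 h)
  obtain ⟨g, h, k, hk⟩ := exists_runip hS hL hcen hperf hx hy1 hyr
  have hxr : ¬ r ∣ orderOf x := by
    intro h
    apply hx
    refine h.trans ?_
    have h2 : x ∈ centralizer ({x} : Set K) := mem_centralizer_singleton_iff.2 rfl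
    rw [← orderOf_mk x h2]
    exact orderOf_dvd_natCard _
  have e : g * x * g⁻¹ * (h * y * h⁻¹) = g * (x * ((g⁻¹ * h) * y * (g⁻¹ * h)⁻¹)) * g⁻¹ := by group
  have h1 : (x * ((g⁻¹ * h) * y * (g⁻¹ * h)⁻¹)) ^ r ^ k = 1 := by
    have h2 : (g * (x * ((g⁻¹ * h) * y * (g⁻¹ * h)⁻¹)) * g⁻¹) ^ r ^ k = 1 := by rw [← e]; exact hk
    rw [conj_pow, conj_eq_one_iff] at h2
    exact h2
  have ho : orderOf ((g⁻¹ * h) * y * (g⁻¹ * h)⁻¹) = 2 := by
    rw [← hy]
    exact orderOf_injective (MulAut.conj (g⁻¹ * h)).toMonoidHom (MulAut.conj (g⁻¹ * h)).injective y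
  obtain ⟨j, -, hj⟩ := (Nat.dvd_prime_pow hrp).1 (orderOf_dvd_of_pow_eq_one h1)
  refine ⟨g⁻¹ * h, Cfsg.Agent.H459.Inv.not_solvable_of_triangle ?_ ?_ ?_ ?_⟩
  · rw [ho]; exact Nat.coprime_two_right.2 hxo
  · rw [hj]
    exact Nat.Coprime.pow_left _ ((Nat.Prime.coprime_iff_not_dvd hrp).2 hxr)
  · rw [hj, ho]
    exact Nat.Coprime.pow_left _ ((Nat.coprime_primes hrp Nat.prime_two).2 hr)
  · intro h2
    rw [h2] at ho
    simp at ho

/-- `x` of odd order with centraliser of order prime to the characteristic `r ≠ 2`: any class of involutions. -/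
theorem ns_of_split {K : Type*} [Group K] [Finite K] {r : ℕ} [Fact r.Prime] (hr : r ≠ 2)
    (hS : HasSplitAb r K) (hL : LocChar r K) (hcen : center K = ⊥) (hperf : commutator K = ⊤) {x y : K}
    (hx : ¬ r ∣ Nat.card ↥(centralizer ({x} : Set K))) (hx1 : x ≠ 1) (hxo : Odd (orderOf x)) (hy : orderOf y = 2) :
    Cfsg.Agent.H459.Inv.NS (MulAut.conj x) := by
  obtain ⟨g, hg⟩ := not_solvable_of_split hr hS hL hcen hperf hx hx1 hxo hy
  refine Cfsg.Agent.H459.Inv.ns_of_inner (y := g * y * g⁻¹) ?_ hg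
  rw [← hy]
  exact orderOf_injective (MulAut.conj g).toMonoidHom (MulAut.conj g).injective y

/-- `x` inner, not normalising an `r`-subgroup `≠ 1` -/
theorem not_dvd_of_not_fixR {K : Type*} [Group K] [Finite K] {r : ℕ} [Fact r.Prime] {x : K}
    (hx : ¬ Cfsg.Agent.H459.Iface.FixR r (MulAut.conj x)) : ¬ r ∣ Nat.card ↥(centralizer ({x} : Set K)) := by
  intro h
  obtain ⟨u, hu⟩ := exists_prime_orderOf_dvd_card' r h
  have hu1 : orderOf (u : K) = r := by rw [Subgroup.orderOf_coe]; exact hu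
  have hrp : r.Prime := Fact.out
  refine hx (Cfsg.Agent.H459.Iface.FixR.of_mem (v := (u : K)) ?_ ?_ ⟨1, ?_⟩)
  · intro h1
    rw [h1, orderOf_one] at hu1
    exact hrp.one_lt.ne hu1
  · have h1 := mem_centralizer_singleton_iff.1 u.2
    rw [MulAut.conj_apply, ← h1, mul_inv_cancel_right]
  · rw [pow_one, ← hu1, pow_orderOf_eq_one]

/-- **Groups of Lie type of odd characteristic `r`**: `x` of odd order with centraliser of order prime to `r`. -/
theorem ns_of_lie {K : Type*} [Group K] [Finite K] {r : ℕ} (hrp : r.Prime) (hr : r ≠ 2) (hG : IsLieTypeChar r K)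
    {x : K} (hx : ¬ r ∣ Nat.card ↥(centralizer ({x} : Set K))) (hx1 : x ≠ 1) (hxo : Odd (orderOf x)) :
    Cfsg.Agent.H459.Inv.NS (MulAut.conj x) := by
  have : Fact r.Prime := ⟨hrp⟩
  have : IsSimpleGroup K := H400.LieSimple.isSimple_of_lie hG
  have hS := H716.SplitAb.hasSplitAb_of_lie hrp hG
  have hperf := perfect_of_split (hasSplit_of_ab hS)
  have h2 : 2 ∣ Nat.card K := by
    by_contra h
    have h1 : Odd (Nat.card K) := by
      rw [← Nat.not_even_iff_odd, even_iff_two_dvd]
      exact h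
    have h2 : Group.IsSolvable K := S0205.result h1
    have h3 : Nontrivial K := inferInstance
    exact (Group.IsSolvable.commutator_lt_top_of_nontrivial (G := K)).ne hperf
  obtain ⟨y, hy⟩ := exists_prime_orderOf_dvd_card' 2 h2
  exact ns_of_split hr hS (locChar_of_lie hG) (H400.LieLocal.center_eq_bot (hasSplit_of_ab hS)) hperf hx hx1 hxo hy

/-- **Groups of Lie type of odd characteristic `r`**: inner automorphisms of odd order not normalising an `r`-subgroup. -/
theorem ns_of_not_fixR {K : Type*} [Group K] [Finite K] {r : ℕ} (hrp : r.Prime) (hr : r ≠ 2)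
    (hG : IsLieTypeChar r K) {x : K} (hx : ¬ Cfsg.Agent.H459.Iface.FixR r (MulAut.conj x)) (hx1 : x ≠ 1)
    (hxo : Odd (orderOf x)) : Cfsg.Agent.H459.Inv.NS (MulAut.conj x) :=
  have : Fact r.Prime := ⟨hrp⟩
  ns_of_lie hrp hr hG (not_dvd_of_not_fixR hx) hx1 hxo

end Cfsg.Agent.H255.Inv
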