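import Mathlib
import Cfsg.Agent.H255.Inv.GowU
import Cfsg.Agent.H459.Inv.Tools
import Cfsg.Agent.H53.HC.RgdLevi

/-!
# An element acting on a quasisimple section of odd characteristic (helper255, S3830)

`ns_of_levi` : `y` normalises `N`, and induces conjugation by `l` on the section `D` of `N`; no `r`-subgroup `≠ 1` of
`D` is normalised by `l`; `D / Z(D)` is a group of Lie type of odd characteristic `r`, `y` of order `p` is inner or
`|Z(D)|` is odd: `NS y`.
-/

set_option autoImplicit false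
set_option linter.unusedSectionVars false

namespace Cfsg.Agent.H255.Inv

open Cfsg Subgroup
open Cfsg.Agent.H459.Inv Cfsg.Agent.H53.HC
open Cfsg.Agent.BpLieP.Big (LocChar)
open Cfsg.Agent.Omega.ML.LieRow.CRB (HasSplitAb)
open Cfsg.Agent.H330 Cfsg.Agent.H330.Gow

universe u

section

variable {Y : Type u} [Group Y] [Finite Y]

/-- an `r`-element over an `r`-element -/
theorem exists_r_lift {D Q : Type*} [Group D] [Finite D] [Group Q] (f : D →* Q) (hf : Function.Surjective f)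
    {r : ℕ} [Fact r.Prime] {u : Q} {k : ℕ} (hu : u ^ r ^ k = 1) : ∃ b : D, f b = u ∧ ∃ m : ℕ, b ^ r ^ m = 1 := by
  obtain ⟨b, hb⟩ := hf u
  have hr : r.Prime := Fact.out
  have ho : orderOf b ≠ 0 := (orderOf_pos b).ne'
  obtain ⟨e, c, hc, he⟩ := Nat.exists_eq_pow_mul_and_not_dvd ho r hr.ne_one
  have hcop : c.Coprime (r ^ k) := ((Nat.Prime.coprime_iff_not_dvd hr).2 hc).symm.pow_right k
  obtain ⟨j, hj⟩ : ∃ j : ℕ, u ^ (c * j) = u := by
    have h1 : c.Coprime (orderOf u) := Nat.Coprime.coprime_dvd_right (orderOf_dvd_of_pow_eq_one hu) hcop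
    obtain ⟨m, hm⟩ := exists_pow_eq_self_of_coprime h1
    exact ⟨m, by rw [pow_mul]; exact hm⟩
  refine ⟨b ^ (c * j), by rw [map_pow, hb, hj], e, ?_⟩
  rw [← pow_mul]
  have e1 : c * j * r ^ e = orderOf b * j := by rw [he]; ring
  rw [e1, pow_mul, pow_orderOf_eq_one, one_pow]

theorem ns_of_levi {r p : ℕ} [Fact r.Prime] [Fact p.Prime] (hr2 : r ≠ 2) (hp : 5 ≤ p)
    {D N : Subgroup Y} (hDN : D ≤ N) (f : N →* D) (hf1 : ∀ (d : Y) (hd : d ∈ D), f ⟨d, hDN hd⟩ = ⟨d, hd⟩)
    {y l : Y} (hyN : ∀ a ∈ N, y * a * y⁻¹ ∈ N) (hlD : l ∈ normalizer (D : Set Y))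
    (hf2 : ∀ a : N, (f ⟨y * a * y⁻¹, hyN a a.2⟩ : Y) = l * f a * l⁻¹) (hlp : l ^ p = 1)
    (hmax : ∀ Q ≤ D, IsPGroup r Q → (∀ a ∈ Q, l * a * l⁻¹ ∈ Q) → Q = ⊥)
    (hS : HasSplitAb r (D ⧸ center D)) (hL : LocChar r (D ⧸ center D))
    (hcen : center (D ⧸ center D) = ⊥) (hcomm : commutator (D ⧸ center D) = ⊤)
    (hsim : IsSimpleGroup (D ⧸ center D)) (hinv : ∃ y0 ∈ D, orderOf y0 = 2 ∧ ∃ a ∈ D, y0 * a ≠ a * y0)
    (hthird : (∃ k : ℕ, k.Coprime p ∧ ∃ s ∈ D, ∀ a ∈ D, l ^ k * a * (l ^ k)⁻¹ = s * a * s⁻¹) ∨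
      Odd (Nat.card ↥(center D)))
    (hI : IH.{u} p (Nat.card Y)) (hDt : D ≠ ⊤) : NS (MulAut.conj y) := by
  classical
  have hr : r.Prime := Fact.out
  have hpp : p.Prime := Fact.out
  set Z := center D with hZ
  have hlconj : ∀ d ∈ D, l * d * l⁻¹ ∈ D := fun d hd => (mem_normalizer_iff.1 hlD d).1 hd
  let α : D ≃* D := conjME D hlD
  have hα : ∀ d : D, (α d : Y) = l * d * l⁻¹ := fun d => rfl
  have hαZ : Z.map α.toMonoidHom = Z := characteristic_iff_map_eq.1 inferInstance α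
  let x' : MulAut (D ⧸ Z) := QuotientGroup.congr Z Z α hαZ
  have hx'mk : ∀ d : D, x' (QuotientGroup.mk' Z d) = QuotientGroup.mk' Z (α d) := fun d => rfl
  have hαpow : ∀ (k : ℕ) (d : D), ((α ^ k : MulAut D) d : Y) = l ^ k * d * (l ^ k)⁻¹ := by
    intro k
    induction k with
    | zero => intro d; simp
    | succ k ih =>
      intro d
      rw [pow_succ', MulAut.mul_apply, hα, ih, pow_succ']
      group
  have hx'pow : ∀ (k : ℕ) (d : D), (x' ^ k) (QuotientGroup.mk' Z d) = QuotientGroup.mk' Z ((α ^ k : MulAut D) d) := by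
    intro k
    induction k with
    | zero => intro d; simp
    | succ k ih =>
      intro d
      rw [pow_succ', MulAut.mul_apply, ih, hx'mk, pow_succ', MulAut.mul_apply]
  have hmks : Function.Surjective (QuotientGroup.mk' Z) := QuotientGroup.mk'_surjective Z
  have hx'p : x' ^ p = 1 := by
    ext q
    obtain ⟨d, rfl⟩ := hmks q
    have h1 : (α ^ p : MulAut D) d = d := Subtype.ext (by rw [hαpow, hlp]; simp)
    rw [hx'pow, h1]
    rfl
  -- the centre has no `r`-elements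
  have hZr : ∀ z ∈ Z, (∃ m : ℕ, z ^ r ^ m = 1) → z = 1 := by
    let Q : Subgroup Y :=
      { carrier := {a | ∃ ha : a ∈ D, (⟨a, ha⟩ : D) ∈ Z ∧ ∃ m : ℕ, a ^ r ^ m = 1}
        one_mem' := ⟨one_mem _, one_mem Z, 0, by simp⟩
        mul_mem' := by
          rintro a b ⟨ha, haZ, m, hm⟩ ⟨hb, hbZ, m', hm'⟩
          refine ⟨mul_mem ha hb, mul_mem haZ hbZ, m + m', ?_⟩
          have hc : Commute a b := by
            have := (mem_center_iff.1 haZ) ⟨b, hb⟩
            exact (congrArg Subtype.val this).symm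
          rw [hc.mul_pow]
          have e1 : a ^ r ^ (m + m') = 1 := by rw [pow_add, pow_mul, hm, one_pow]
          have e2 : b ^ r ^ (m + m') = 1 := by rw [add_comm, pow_add, pow_mul, hm', one_pow]
          rw [e1, e2, one_mul]
        inv_mem' := by
          rintro a ⟨ha, haZ, m, hm⟩
          exact ⟨inv_mem ha, inv_mem haZ, m, by rw [inv_pow, hm, inv_one]⟩ }
    have hQ := hmax Q (fun a ha => ha.1) (fun a => by
      obtain ⟨-, -, m, hm⟩ := a.2
      exact ⟨m, Subtype.ext hm⟩) (by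
      rintro a ⟨ha, haZ, m, hm⟩
      refine ⟨hlconj a ha, ?_, m, ?_⟩
      · have : α ⟨a, ha⟩ ∈ Z.map α.toMonoidHom := ⟨_, haZ, rfl⟩
        rwa [hαZ] at this
      · rw [conj_pow, hm]; group)
    rintro ⟨z, hz⟩ hzZ ⟨m, hm⟩
    have h1 : z ∈ Q := ⟨hz, hzZ, m, congrArg Subtype.val hm⟩
    rw [hQ, mem_bot] at h1
    exact Subtype.ext h1
  -- `x'` fixes no `r`-element
  have hfix : ∀ (w : D ⧸ Z) (k : ℕ), w ^ r ^ k = 1 → x' w = w → w = 1 := by
    intro w k hw hxw
    obtain ⟨b, rfl, m, hm⟩ := exists_r_lift (QuotientGroup.mk' Z) hmks hw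
    have h1 : b⁻¹ * α b ∈ Z := by
      rw [← QuotientGroup.eq]
      exact ((hx'mk b).symm.trans hxw).symm
    have hcomm : Commute b⁻¹ (α b) := by
      have h2 := mem_center_iff.1 h1 b⁻¹
      have h3 : b⁻¹ * α b = α b * b⁻¹ := by
        calc b⁻¹ * α b = b * (b⁻¹ * (b⁻¹ * α b)) := by group
          _ = b * ((b⁻¹ * α b) * b⁻¹) := by rw [h2]
          _ = α b * b⁻¹ := by group
      exact h3
    have h2 : b⁻¹ * α b = 1 := by
      refine hZr _ h1 ⟨m, ?_⟩
      rw [hcomm.mul_pow, inv_pow, hm, ← map_pow, hm, map_one, inv_one, one_mul]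
    have h3 : α b = b := (inv_mul_eq_one.1 h2).symm
    have hQ := hmax (zpowers (b : Y)) (by rw [zpowers_le]; exact b.2) (by
      rw [show (zpowers (b : Y)) = (zpowers b).map D.subtype from by rw [MonoidHom.map_zpowers]; rfl]
      refine IsPGroup.map ?_ _
      have h4 : IsPGroup r ↥(zpowers b) := by
        obtain ⟨j, hj⟩ := (Nat.dvd_prime_pow hr).1 (orderOf_dvd_of_pow_eq_one hm)
        exact IsPGroup.of_card (n := j) (by rw [Nat.card_zpowers]; exact hj.2)
      exact h4) (by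
      have h5 : l * b * l⁻¹ = b := congrArg Subtype.val h3
      intro a ha
      obtain ⟨j, rfl⟩ := mem_zpowers_iff.1 ha
      rw [← conj_zpow, h5]
      exact zpow_mem (mem_zpowers _) j)
    have h4 : (b : Y) ∈ zpowers (b : Y) := mem_zpowers _
    rw [hQ, mem_bot] at h4
    have h5 : b = 1 := Subtype.ext h4
    rw [h5, map_one]
  have hrS : r ∣ Nat.card (D ⧸ Z) := dvd_card (hasSplit_of_ab hS)
  have hx'1 : x' ≠ 1 := by
    intro h1
    obtain ⟨w, hw⟩ := exists_prime_orderOf_dvd_card' r hrS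
    have h2 := hfix w 1 (by rw [pow_one, ← hw, pow_orderOf_eq_one]) (by rw [h1]; rfl)
    rw [h2, orderOf_one] at hw
    exact hr.one_lt.ne hw
  have hx'o : orderOf x' = p := orderOf_eq_prime hx'p hx'1
  -- the section
  let F : N →* D ⧸ Z := (QuotientGroup.mk' Z).comp f
  have hM : ∀ m ∈ N, MulAut.conj y m ∈ N := hyN
  have hF : ∀ m : N, F ⟨MulAut.conj y m, hM m m.2⟩ = x' (F m) := by
    intro m
    show QuotientGroup.mk' Z (f ⟨y * m * y⁻¹, hyN m m.2⟩) = x' (QuotientGroup.mk' Z (f m))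
    have h1 : f ⟨y * m * y⁻¹, hyN m m.2⟩ = α (f m) := Subtype.ext (by rw [hf2, hα])
    rw [hx'mk, h1]
  have key : ∀ y1 : D, orderOf y1 = 2 →
      ¬ Group.IsSolvable ↥(closure ({x', MulAut.conj (QuotientGroup.mk' Z y1)} : Set (MulAut (D ⧸ Z)))) →
      NS (MulAut.conj y) := by
    intro y1 hy1 hns
    rw [solvable_iff] at hns
    refine ns_of_hom hM F x' hF (y := ⟨(y1 : Y), hDN y1.2⟩) ?_ ?_
    · rw [← hy1, ← Subgroup.orderOf_coe, ← Subgroup.orderOf_coe y1]
    · have h1 : F ⟨(y1 : Y), hDN y1.2⟩ = QuotientGroup.mk' Z y1 := by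
        show QuotientGroup.mk' Z (f ⟨(y1 : Y), hDN y1.2⟩) = _
        rw [hf1]
      rw [h1]
      exact hns
  rcases hthird with ⟨k, hk, s, hs, hks⟩ | hodd
  · -- `x'` is inner
    have h1 : x' ^ k = MulAut.conj (QuotientGroup.mk' Z ⟨s, hs⟩) := by
      ext q
      obtain ⟨d, rfl⟩ := hmks q
      have h2 : (α ^ k : MulAut D) d = ⟨s, hs⟩ * d * ⟨s, hs⟩⁻¹ := Subtype.ext (by
        rw [hαpow]
        exact hks d d.2)
      rw [hx'pow, MulAut.conj_apply, ← map_inv, ← map_mul, ← map_mul, h2]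
    obtain ⟨m, hm⟩ := exists_pow_eq_self_of_coprime (x := x') (n := k) (by rw [hx'o]; exact hk)
    set s' : D ⧸ Z := (QuotientGroup.mk' Z ⟨s, hs⟩) ^ m with hs'
    have hx's : x' = MulAut.conj s' := by
      rw [hs', map_pow, ← h1]
      exact hm.symm
    have hs'1 : s' ≠ 1 := by
      intro h2
      rw [h2, map_one] at hx's
      exact hx'1 hx's
    have hinj : Function.Injective (MulAut.conj : (D ⧸ Z) →* MulAut (D ⧸ Z)) := by
      rw [injective_iff_map_eq_one]
      intro a ha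
      have h2 : a ∈ center (D ⧸ Z) := by
        rw [mem_center_iff]
        intro b
        have h3 : MulAut.conj a b = b := by rw [ha]; rfl
        rw [MulAut.conj_apply] at h3
        calc b * a = (a * b * a⁻¹) * a := by rw [h3]
          _ = a * b := by group
      rw [hcen, mem_bot] at h2
      exact h2
    have hs'p : s' ^ p = 1 := by
      apply hinj
      rw [map_pow, ← hx's, hx'p, map_one]
    have hodd' : Odd (orderOf s') := by
      have h2 := orderOf_eq_prime hs'p hs'1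
      rw [h2]
      exact hpp.odd_of_ne_two (by omega)
    have hcs : ¬ r ∣ Nat.card ↥(centralizer ({s'} : Set (D ⧸ Z))) := by
      intro h2
      obtain ⟨w, hw⟩ := exists_prime_orderOf_dvd_card' r h2
      have hw' : orderOf (w : D ⧸ Z) = r := by rw [Subgroup.orderOf_coe]; exact hw
      have h3 := hfix w 1 (by rw [pow_one, ← hw', pow_orderOf_eq_one]) (by
        rw [hx's, MulAut.conj_apply]
        have h4 := mem_centralizer_singleton_iff.1 w.2
        rw [← h4]
        group)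
      rw [h3, orderOf_one] at hw'
      exact hr.one_lt.ne hw'
    obtain ⟨y0, hy0, hy0o, a, ha, hya⟩ := hinv
    have hmk2 : orderOf (QuotientGroup.mk' Z ⟨y0, hy0⟩) = 2 := by
      refine orderOf_eq_prime ?_ ?_
      · rw [← map_pow]
        have : (⟨y0, hy0⟩ : D) ^ 2 = 1 := Subtype.ext (by
          show y0 ^ 2 = 1
          rw [← hy0o, pow_orderOf_eq_one])
        rw [this, map_one]
      · intro h2
        have h3 : (⟨y0, hy0⟩ : D) ∈ Z := (QuotientGroup.eq_one_iff _).1 h2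
        exact hya (congrArg Subtype.val (mem_center_iff.1 h3 ⟨a, ha⟩)).symm
    obtain ⟨g, hg⟩ := not_solvable_of_split hr2 hS hL hcen hcomm hcs hs'1 hodd' hmk2
    obtain ⟨d0, rfl⟩ := hmks g
    refine key (d0 * ⟨y0, hy0⟩ * d0⁻¹) ?_ ?_
    · have h5 : orderOf (d0 * ⟨y0, hy0⟩ * d0⁻¹) = orderOf (⟨y0, hy0⟩ : D) :=
        orderOf_injective (MulAut.conj d0).toMonoidHom (MulAut.conj d0).injective ⟨y0, hy0⟩
      rw [h5, Subgroup.orderOf_mk, hy0o]
    · rw [hx's, solvable_inner_iff, map_mul, map_mul, map_inv]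
      exact hg
  · -- induction
    have hna : ¬ IsMulCommutative (D ⧸ Z) := by
      intro hc
      have h2 : center (D ⧸ Z) = ⊤ := by
        rw [eq_top_iff]
        intro a _
        rw [mem_center_iff]
        exact fun b => mul_comm' b a
      rw [hcen] at h2
      have h3 : Nontrivial (D ⧸ Z) := inferInstance
      exact (bot_ne_top (α := Subgroup (D ⧸ Z))) h2
    have hlt : Nat.card (D ⧸ Z) < Nat.card Y := by
      refine lt_of_le_of_lt (Nat.card_le_card_of_surjective _ hmks) ?_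
      refine lt_of_le_of_ne (Nat.card_le_card_of_injective _ D.subtype_injective) ?_
      intro h2
      exact hDt (Subgroup.eq_top_of_card_eq D h2)
    obtain ⟨w, hw, hns⟩ := hI (D ⧸ Z) hna hlt x' hx'o
    obtain ⟨b, rfl⟩ := hmks w
    -- lift of the involution
    have hb2 : b ^ 2 ∈ Z := by
      have h2 : QuotientGroup.mk' Z (b ^ 2) = 1 := by rw [map_pow, ← hw, pow_orderOf_eq_one]
      exact (QuotientGroup.eq_one_iff _).1 h2
    set c := Nat.card ↥Z with hc
    have hbc : (b ^ c) ^ 2 = 1 := by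
      rw [← pow_mul, mul_comm, pow_mul]
      have h3 : (⟨b ^ 2, hb2⟩ : Z) ^ c = 1 := pow_card_eq_one'
      exact congrArg Subtype.val h3
    have hmkc : QuotientGroup.mk' Z (b ^ c) = QuotientGroup.mk' Z b := by
      rw [map_pow]
      obtain ⟨j, hj⟩ := hodd
      rw [hj, pow_succ, pow_mul, ← hw, pow_orderOf_eq_one, one_pow, one_mul]
    refine key (b ^ c) ?_ ?_
    · refine orderOf_eq_prime hbc ?_
      intro h2
      rw [h2, map_one] at hmkc
      rw [← hmkc, orderOf_one] at hw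
      omega
    · rw [hmkc]
      exact hns

end

end Cfsg.Agent.H255.Inv
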