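import Mathlib
import Cfsg.Agent.H255.Inv.Par
import Cfsg.Agent.H255.Inv.Levi

/-!
# The action of a radical element on a component of a Levi factor (helper255, S3830)

* `eq_bot_of_max` : maximality of `V_J` in terms of the Levi factor;
* `exists_f` : the projection `M_K V_J → M_K`;
* `ns_of_comp` : a component `M_K`, `|K| ≥ 2`.
-/

set_option autoImplicit false
set_option linter.unusedSectionVars false

namespace Cfsg.Agent.H255.Inv

open Cfsg CoxeterSystem Cfsg.Agent.ChevalleyStructure.CoxeterGeom Cfsg.Agent.Tits.Roots Cfsg.Agent.Tits.Core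
  Cfsg.Agent.Nodes.Reps Cfsg.Agent.Nodes.BNOf Cfsg.Agent.Nodes.StabComb Cfsg.Agent.Nodes.Bruhat
  Cfsg.Agent.Nodes.LeviDec Cfsg.Agent.H53.HC Cfsg.Agent.KFacts.RgdBorelTits Cfsg.Agent.KFacts.RgdVJ
open Cfsg.Agent.H459.Gallery (Iv cx cx_apply)
open Cfsg.Agent.H459.Inv
open Cfsg.Agent.BpLieP.Big (LocChar)
open Cfsg.Agent.Omega.ML.LieRow.CRB (HasSplitAb)
open scoped commutatorElement

universe u

section

variable {I W Y : Type*} [Fintype I] [DecidableEq I] [Group W] [Group Y] {M : CoxeterMatrix I}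
  {cs : CoxeterSystem M W} {A : I → I → ℤ} {h : IsCartan M A} {r : ℕ} {T : Subgroup Y} {n : I → Y}
  {X : (I → ℤ) → Subgroup Y}

variable (R : RGD cs h r T n X)
include R

theorem n_not_mem_PJ [Finite W] {J : Set I} {i : I} (hi : i ∉ J) : n i ∉ PJ cs h T X J := by
  intro hn
  have h1 : cj (n i) (VJ cs h X J) = VJ cs h X J := mem_normalizer_iff_cj.1 (PJ_le_normalizer_VJ R J hn)
  have h2 : X (-sr i) ≤ VJ cs h X J := by
    rw [← h1]
    have h3 : X (-sr i) = cj (n i) (X (sr i)) := by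
      rw [R.conj i _ (isRoot_sr cs h i), rep_simple_sr]
    rw [h3]
    exact cj_mono _ (RGD.le_Sup (sr_mem_NotJ hi))
  exact R.not_neg_le_B i (le_trans h2 (VJ_le_B J))

/-- the Levi factor contains no invariant `r`-subgroup -/
theorem eq_bot_of_max [Finite W] [Fact r.Prime] {J : Set I} {l v : Y} (hl : l ∈ LJ cs h T X J)
    (hv : v ∈ VJ cs h X J)
    (hmax : ∀ V : Subgroup Y, IsPGroup r V → VJ cs h X J ≤ V → Iv (MulAut.conj (l * v)) V → V = VJ cs h X J)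
    {Q : Subgroup Y} (hQ : Q ≤ LJ cs h T X J) (hQr : IsPGroup r Q) (hQl : ∀ a ∈ Q, l * a * l⁻¹ ∈ Q) : Q = ⊥ := by
  have hN : Q ≤ Subgroup.normalizer (VJ cs h X J : Set Y) := hQ.trans (LJ_le_normalizer_VJ R J)
  have h1 : IsPGroup r ↥(Q ⊔ VJ cs h X J) :=
    IsPGroup.to_sup_of_normal_right' hQr (R.isPGroup_of_pos (S := NotJ cs h J) fun x hx => ⟨hx.1, hx.2.1⟩) hN
  have hlV : ∀ c ∈ VJ cs h X J, l * c * l⁻¹ ∈ VJ cs h X J := fun c hc =>
    (Subgroup.mem_normalizer_iff.1 (LJ_le_normalizer_VJ R J hl) c).1 hc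
  have h2 : Iv (MulAut.conj (l * v)) (Q ⊔ VJ cs h X J) := by
    have h3 : Q ⊔ VJ cs h X J ≤ (Q ⊔ VJ cs h X J).comap (MulAut.conj (l * v)).toMonoidHom := by
      refine sup_le ?_ ?_
      · intro a ha
        show l * v * a * (l * v)⁻¹ ∈ Q ⊔ VJ cs h X J
        have e : l * v * a * (l * v)⁻¹ = (l * v * l⁻¹) * (l * a * l⁻¹) * (l * v * l⁻¹)⁻¹ := by group
        rw [e]
        exact mul_mem (mul_mem (Subgroup.mem_sup_right (hlV v hv)) (Subgroup.mem_sup_left (hQl a ha)))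
          (inv_mem (Subgroup.mem_sup_right (hlV v hv)))
      · intro c hc
        show l * v * c * (l * v)⁻¹ ∈ Q ⊔ VJ cs h X J
        refine Subgroup.mem_sup_right ?_
        have e : l * v * c * (l * v)⁻¹ = l * (v * c * v⁻¹) * l⁻¹ := by group
        rw [e]
        exact hlV _ (mul_mem (mul_mem hv hc) (inv_mem hv))
    exact fun a ha => h3 ha
  have h3 := hmax _ h1 le_sup_right h2
  have h4 : Q ≤ VJ cs h X J := le_sup_left.trans h3.le
  rw [eq_bot_iff]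
  intro a ha
  exact Subgroup.mem_bot.2 (eq_one_of_mem_LJ_of_mem_VJ R (hQ ha) (h4 ha))

/-- the projection `M_K V_J → M_K` -/
theorem exists_f [Finite W] {J K : Set I} (hKJ : K ⊆ J)
    (hK : LJ cs h T X J ≤ Subgroup.normalizer (MJ cs h X K : Set Y)) :
    ∃ f : ↥(MJ cs h X K ⊔ VJ cs h X J) →* ↥(MJ cs h X K),
      (∀ (d : Y) (hd : d ∈ MJ cs h X K), f ⟨d, Subgroup.mem_sup_left hd⟩ = ⟨d, hd⟩) ∧
      ∀ (l v : Y), l ∈ LJ cs h T X J → v ∈ VJ cs h X J → ∀ (a : ↥(MJ cs h X K ⊔ VJ cs h X J))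
        (ha : (l * v) * a * (l * v)⁻¹ ∈ MJ cs h X K ⊔ VJ cs h X J), (f ⟨_, ha⟩ : Y) = l * f a * l⁻¹ := by
  obtain ⟨π, hπ1, hπ2⟩ := exists_projL R J
  have hKL : MJ cs h X K ≤ LJ cs h T X J :=
    (RGD.Sup_mono fun x hx => ⟨hx.1, fun k hk => hx.2 k fun hk' => hk (hKJ hk')⟩ :
      MJ cs h X K ≤ MJ cs h X J).trans (MJ_le_LJ J)
  have hNP : MJ cs h X K ⊔ VJ cs h X J ≤ PJ cs h T X J := sup_le (hKL.trans LJ_le_PJ) VJ_le_PJ
  let g : ↥(MJ cs h X K ⊔ VJ cs h X J) →* Y :=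
    (LJ cs h T X J).subtype.comp (π.comp (Subgroup.inclusion hNP))
  have hπlv : ∀ (l v : Y) (hl : l ∈ LJ cs h T X J) (hv : v ∈ VJ cs h X J) (hlv : l * v ∈ PJ cs h T X J),
      π ⟨l * v, hlv⟩ = ⟨l, hl⟩ := by
    intro l v hl hv hlv
    have e : (⟨l * v, hlv⟩ : ↥(PJ cs h T X J)) = ⟨l, LJ_le_PJ hl⟩ * ⟨v, VJ_le_PJ hv⟩ := rfl
    rw [e, map_mul, hπ1 l hl, hπ2 v hv, mul_one]
  have hN : MJ cs h X K ≤ Subgroup.normalizer (VJ cs h X J : Set Y) :=
    hKL.trans (LJ_le_normalizer_VJ R J)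
  have hg : ∀ a, g a ∈ MJ cs h X K := by
    intro a
    have h1 : (a : Y) ∈ ((MJ cs h X K ⊔ VJ cs h X J : Subgroup Y) : Set Y) := a.2
    rw [Subgroup.coe_mul_of_left_le_normalizer_right _ _ hN, Set.mem_mul] at h1
    obtain ⟨d, hd, v, hv, e⟩ := h1
    have h2 : g a = d := by
      show ((π ⟨(a : Y), hNP a.2⟩ : ↥(LJ cs h T X J)) : Y) = d
      have h3 : (⟨(a : Y), hNP a.2⟩ : ↥(PJ cs h T X J)) = ⟨d * v, by rw [e]; exact hNP a.2⟩ := Subtype.ext e.symm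
      rw [h3, hπlv d v (hKL hd) hv]
    rw [h2]
    exact hd
  refine ⟨g.codRestrict _ hg, ?_, ?_⟩
  · intro d hd
    apply Subtype.ext
    show ((π ⟨d, _⟩ : ↥(LJ cs h T X J)) : Y) = d
    rw [hπ1 d (hKL hd)]
  · intro l v hl hv a ha
    show ((π ⟨_, _⟩ : ↥(LJ cs h T X J)) : Y) = l * ((π ⟨(a : Y), hNP a.2⟩ : ↥(LJ cs h T X J)) : Y) * l⁻¹
    have hlv : l * v ∈ PJ cs h T X J := mul_mem (LJ_le_PJ hl) (VJ_le_PJ hv)
    have e : (⟨(l * v) * a * (l * v)⁻¹, hNP ha⟩ : ↥(PJ cs h T X J)) =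
        ⟨l * v, hlv⟩ * ⟨(a : Y), hNP a.2⟩ * ⟨l * v, hlv⟩⁻¹ := rfl
    rw [e, map_mul, map_mul, map_inv, hπlv l v hl hv]
    rfl

/-- `L_J` normalises the components -/
theorem LJ_le_normalizer_comp [Finite W] {J K : Set I} (hKJ : K ⊆ J) (ho : Orth A K (J \ K)) :
    LJ cs h T X J ≤ Subgroup.normalizer (MJ cs h X K : Set Y) := by
  have hU : J = K ∪ (J \ K) := (Set.union_sdiff_cancel hKJ).symm
  refine sup_le (T_le_normalizer_MJ R K) ?_
  have h1 : MJ cs h X J = MJ cs h X K ⊔ MJ cs h X (J \ K) := by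
    conv_lhs => rw [hU]
    exact ho.MJ_union
  change MJ cs h X J ≤ _
  rw [h1]
  refine sup_le Subgroup.le_normalizer ?_
  intro b hb
  rw [Subgroup.mem_normalizer_iff]
  intro a
  constructor
  · intro ha
    rw [← Orth.comm R ho a ha b hb]
    simpa using ha
  · intro ha
    have h2 := Orth.comm R ho _ ha b hb
    have h3 : a = b * a * b⁻¹ := by
      have h4 : b * (b * a * b⁻¹) = b * (a * b⁻¹ * b) * 1 := by rw [← h2]; group
      have h5 := mul_left_cancel (a := b) (b := b * a * b⁻¹) (c := a) (by rw [h4]; group)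
      exact h5.symm
    rw [h3]
    exact ha

/-- the action of an element of `L_J` on a component -/
theorem exists_tm [Finite W] {J K : Set I} (hKJ : K ⊆ J) (ho : Orth A K (J \ K)) {l : Y} (hl : l ∈ LJ cs h T X J) :
    ∃ t ∈ T, ∃ m ∈ MJ cs h X K, ∀ a ∈ MJ cs h X K, l * a * l⁻¹ = (t * m) * a * (t * m)⁻¹ := by
  have hU : J = K ∪ (J \ K) := (Set.union_sdiff_cancel hKJ).symm
  obtain ⟨t, ht, m, hm, rfl⟩ := (mem_LJ_iff_mul R J).1 hl
  have h1 : MJ cs h X J = MJ cs h X K ⊔ MJ cs h X (J \ K) := by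
    conv_lhs => rw [hU]
    exact ho.MJ_union
  have hc := Orth.comm R ho
  rw [h1] at hm
  have hn : MJ cs h X K ≤ Subgroup.normalizer (MJ cs h X (J \ K) : Set Y) := by
    intro b hb
    rw [Subgroup.mem_normalizer_iff]
    intro a
    constructor
    · intro ha
      rw [hc b hb a ha]
      simpa using ha
    · intro ha
      have h2 := hc b hb _ ha
      have h3 : a = b * a * b⁻¹ := by
        have h4 : b * (b * a * b⁻¹) = b * a := by rw [h2]; group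
        exact (mul_left_cancel h4).symm
      rw [h3]
      exact ha
  have h2 : m ∈ ((MJ cs h X K ⊔ MJ cs h X (J \ K) : Subgroup Y) : Set Y) := hm
  rw [Subgroup.coe_mul_of_left_le_normalizer_right _ _ hn, Set.mem_mul] at h2
  obtain ⟨m1, hm1, m2, hm2, rfl⟩ := h2
  refine ⟨t, ht, m1, hm1, fun a ha => ?_⟩
  have h3 : m2 * a * m2⁻¹ = a := by
    rw [← hc a ha m2 hm2]; group
  calc t * (m1 * m2) * a * (t * (m1 * m2))⁻¹ = t * m1 * (m2 * a * m2⁻¹) * (t * m1)⁻¹ := by group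
    _ = _ := by rw [h3]

end

section

variable {I W : Type*} {Y : Type u} [Fintype I] [DecidableEq I] [Group W] [Group Y] {M : CoxeterMatrix I}
  {cs : CoxeterSystem M W} {A : I → I → ℤ} {h : IsCartan M A} {r : ℕ} {T : Subgroup Y} {n : I → Y}
  {X : (I → ℤ) → Subgroup Y}

/-- **A component of rank at least two of the Levi factor.** -/
theorem ns_of_comp (R : RGD cs h r T n X) [Finite W] [Finite Y] [Fact r.Prime] (hr2 : r ≠ 2) {p : ℕ} [Fact p.Prime]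
    (hp : 5 ≤ p) {J K : Set I} (hJ : J ≠ Set.univ) (hKJ : K ⊆ J) (ho : Orth A K (J \ K))
    (hS : HasSplitAb r (↥(MJ cs h X K) ⧸ Subgroup.center ↥(MJ cs h X K)))
    (hL : LocChar r (↥(MJ cs h X K) ⧸ Subgroup.center ↥(MJ cs h X K)))
    (hcen : Subgroup.center (↥(MJ cs h X K) ⧸ Subgroup.center ↥(MJ cs h X K)) = ⊥)
    (hcomm : commutator (↥(MJ cs h X K) ⧸ Subgroup.center ↥(MJ cs h X K)) = ⊤)
    (hsim : IsSimpleGroup (↥(MJ cs h X K) ⧸ Subgroup.center ↥(MJ cs h X K)))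
    (hC : CompOK p cs h T X K) (hI : IH.{u} p (Nat.card Y)) {y : Y} (hyP : y ∈ PJ cs h T X J) (hyp : y ^ p = 1)
    (hmax : ∀ V : Subgroup Y, IsPGroup r V → VJ cs h X J ≤ V → Iv (MulAut.conj y) V → V = VJ cs h X J) :
    NS (MulAut.conj y) := by
  have hKN := LJ_le_normalizer_comp R hKJ ho
  obtain ⟨f, hf1, hf2⟩ := exists_f R hKJ hKN
  obtain ⟨π, hπ1, hπ2⟩ := exists_projL R J
  obtain ⟨l, hl, v, hv, rfl⟩ := (mem_PJ R).1 hyP
  have hlp : l ^ p = 1 := by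
    have e : (⟨l * v, hyP⟩ : ↥(PJ cs h T X J)) = ⟨l, LJ_le_PJ hl⟩ * ⟨v, VJ_le_PJ hv⟩ := rfl
    have h1 : π ⟨l * v, hyP⟩ = ⟨l, hl⟩ := by rw [e, map_mul, hπ1 l hl, hπ2 v hv, mul_one]
    have h2 : (⟨l * v, hyP⟩ : ↥(PJ cs h T X J)) ^ p = 1 := Subtype.ext hyp
    have h3 : (⟨l, hl⟩ : ↥(LJ cs h T X J)) ^ p = 1 := by rw [← h1, ← map_pow, h2, map_one]
    exact congrArg Subtype.val h3
  have hKL : MJ cs h X K ≤ LJ cs h T X J :=
    (RGD.Sup_mono fun x hx => ⟨hx.1, fun k hk => hx.2 k fun hk' => hk (hKJ hk')⟩ :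
      MJ cs h X K ≤ MJ cs h X J).trans (MJ_le_LJ J)
  have hyN := PJ_le_normalizer_MV R hKN _ hyP
  refine ns_of_levi hr2 hp (D := MJ cs h X K) (N := MJ cs h X K ⊔ VJ cs h X J) le_sup_left f hf1 hyN (hKN hl)
    (fun a => hf2 l v hl hv a _) hlp ?_ hS hL hcen hcomm hsim hC.2.1 ?_ hI ?_
  · intro Q hQ hQr hQl
    exact eq_bot_of_max R hl hv hmax (hQ.trans hKL) hQr hQl
  · rcases hC.2.2 with h1 | h1
    · left
      obtain ⟨t, ht, m, hm, htm⟩ := exists_tm R hKJ ho hl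
      obtain ⟨k, hk, s, hs, hks⟩ := h1 t ht
      have hTN := T_le_normalizer_MJ R K
      have hpow : ∀ j : ℕ, ∃ m' ∈ MJ cs h X K, (t * m) ^ j = t ^ j * m' := by
        intro j
        induction j with
        | zero => exact ⟨1, one_mem _, by simp⟩
        | succ j ih =>
          obtain ⟨m', hm', e⟩ := ih
          have h2 : t⁻¹ * m' * t ∈ MJ cs h X K := by
            have := (Subgroup.mem_normalizer_iff.1 (inv_mem (hTN ht)) m').1 hm'
            rwa [inv_inv] at this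
          refine ⟨(t⁻¹ * m' * t) * m, mul_mem h2 hm, ?_⟩
          rw [pow_succ, e, pow_succ]
          group
      have hlK : ∀ a ∈ MJ cs h X K, l * a * l⁻¹ ∈ MJ cs h X K := fun a ha =>
        (Subgroup.mem_normalizer_iff.1 (hKN hl) a).1 ha
      have hpow2 : ∀ (j : ℕ), ∀ a ∈ MJ cs h X K, l ^ j * a * (l ^ j)⁻¹ ∈ MJ cs h X K ∧
          l ^ j * a * (l ^ j)⁻¹ = (t * m) ^ j * a * ((t * m) ^ j)⁻¹ := by
        intro j
        induction j with
        | zero => intro a ha; simpa using ha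
        | succ j ih =>
          intro a ha
          obtain ⟨h2, h3⟩ := ih a ha
          have e1 : ∀ c : Y, c ^ (j + 1) * a * (c ^ (j + 1))⁻¹ = c * (c ^ j * a * (c ^ j)⁻¹) * c⁻¹ := by
            intro c
            rw [pow_succ']; group
          rw [e1, e1 (t * m), ← h3]
          exact ⟨hlK _ h2, htm _ h2⟩
      obtain ⟨m', hm', e⟩ := hpow k
      refine ⟨k, hk, s * m', mul_mem hs hm', fun a ha => ?_⟩
      rw [(hpow2 k a ha).2, e]
      have h2 : m' * a * m'⁻¹ ∈ MJ cs h X K := mul_mem (mul_mem hm' ha) (inv_mem hm')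
      have h3 := hks _ h2
      calc t ^ k * m' * a * (t ^ k * m')⁻¹ = t ^ k * (m' * a * m'⁻¹) * (t ^ k)⁻¹ := by group
        _ = _ := by rw [h3]; group
    · exact Or.inr h1
  · intro h1
    obtain ⟨j, hj⟩ := (Set.ne_univ_iff_exists_notMem J).1 hJ
    refine n_not_mem_PJ R hj (hKL.trans LJ_le_PJ ?_)
    rw [h1]
    exact Subgroup.mem_top _

end

end Cfsg.Agent.H255.Inv
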