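import Mathlib
import Cfsg.Agent.H255.Inv.Comp
import Cfsg.Agent.H35.Inv.CompJ
import Cfsg.Agent.H459.Inv.NodeX
import Cfsg.Agent.H748.Inv.MinPar
import Cfsg.Agent.H910.Inv.NsNode

/-!
# Exceptional groups of odd characteristic: the assembly (helper255, S3830, task 2567)

* `ns_of_borel`, `ns_of_sylow` : an automorphism of order `p ≥ 5` normalising a Borel subgroup;
* `ns_of_single` : a component of rank one of a Levi factor;
* `ns_of_dat` : the row of a group with `DatOK`.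
-/

set_option autoImplicit false
set_option linter.unusedSectionVars false

namespace Cfsg.Agent.H255.Inv

open Cfsg CoxeterSystem Cfsg.Agent.ChevalleyStructure.CoxeterGeom Cfsg.Agent.Tits.Roots Cfsg.Agent.Tits.Core
  Cfsg.Agent.Nodes.Reps Cfsg.Agent.Nodes.BNOf Cfsg.Agent.Nodes.StabComb Cfsg.Agent.Nodes.Bruhat
  Cfsg.Agent.Nodes.LeviDec Cfsg.Agent.H53.HC Cfsg.Agent.KFacts.RgdBorelTits Cfsg.Agent.KFacts.RgdVJ
  Cfsg.Agent.KFacts.RgdCharP Cfsg.Agent.KFacts.RgdFilt
open Cfsg.Agent.H459.Gallery (Iv cx cx_apply)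
open Cfsg.Agent.H459.Inv Cfsg.Agent.H459.Iface
open scoped commutatorElement

universe u

theorem cx_conj {Y : Type*} [Group Y] [Finite Y] (y g : Y) : cx (MulAut.conj y) g = MulAut.conj (g⁻¹ * y * g) := by
  ext k
  rw [cx_apply, MulAut.conj_apply, MulAut.conj_apply]
  group

theorem cx_eq {Y : Type*} [Group Y] (x : MulAut Y) (g : Y) :
    cx x g = (MulAut.conj g)⁻¹ * x * ((MulAut.conj g)⁻¹)⁻¹ := by
  rw [inv_inv]; rfl

theorem orderOf_cx {Y : Type*} [Group Y] (x : MulAut Y) (g : Y) : orderOf (cx x g) = orderOf x := by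
  rw [cx_eq]
  exact orderOf_injective (MulAut.conj (MulAut.conj g)⁻¹).toMonoidHom (MulAut.conj (MulAut.conj g)⁻¹).injective x

theorem ns_of_cx {Y : Type*} [Group Y] {x : MulAut Y} {g : Y} (h : NS (cx x g)) : NS x := by
  rw [cx_eq] at h
  exact ns_of_conj h

section

variable {I W Y : Type*} [Fintype I] [DecidableEq I] [Group W] [Group Y] {M : CoxeterMatrix I}
  {cs : CoxeterSystem M W} {A : I → I → ℤ} {h : IsCartan M A} {r : ℕ} {T : Subgroup Y} {n : I → Y}
  {X : (I → ℤ) → Subgroup Y}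

/-- an automorphism of order `p ≥ 5` normalising `B` -/
theorem ns_of_borel (R : RGD cs h r T n X) [Finite W] [Finite Y] [IsSimpleGroup Y] [Fact r.Prime] (hr2 : r ≠ 2)
    (hG : Nodes.RGDLib.G1 cs h X = ⊤) (hconn : Conn M) (hnode : ∀ i, NodeOK T X i) {p : ℕ} [Fact p.Prime]
    (hp : 5 ≤ p) {x : MulAut Y} (hx : orderOf x = p) (hB : Iv x (RGD.B cs h T X)) : NS x := by
  obtain ⟨g, i, h1, h2, m, hm, hmB⟩ := H459.Inv.NodeX.exists_node R hG hconn hp hx hB
  have hV := iv_VJ R h1 h2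
  have hN := iv_MV R h1 h2
  refine ns_of_cx (g := g) (H910.Inv.ns_of_node R hr2 hp (hnode i) (x := cx x g) ((orderOf_cx x g).trans hx)
    (Set.mem_singleton i) hN hV ?_)
  by_contra hcon
  push Not at hcon
  apply hmB
  obtain ⟨l, hl, v, hv, rfl⟩ := (mem_PJ R).1 hm
  obtain ⟨t, ht, m', hm', rfl⟩ := (mem_LJ_iff_mul R {i}).1 hl
  -- `t m' v = (t m' v t⁻¹) t`
  have e : t * m' * v = (t * (m' * v) * t⁻¹) * t := by group
  have hnN : t * (m' * v) * t⁻¹ ∈ MJ cs h X {i} ⊔ VJ cs h X {i} :=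
    PJ_le_normalizer_MV R (LJ_le_normalizer_MJ R {i}) t (LJ_le_PJ (T_le_LJ ht)) _
      (mul_mem (Subgroup.mem_sup_left hm') (Subgroup.mem_sup_right hv))
  have h3 := hcon _ hnN
  rw [e]
  set w := t * (m' * v) * t⁻¹ with hw
  have e2 : (w * t)⁻¹ * cx x g (w * t) = t⁻¹ * (w⁻¹ * cx x g w) * cx x g t := by
    rw [map_mul]; group
  rw [e2]
  exact mul_mem (mul_mem (inv_mem (RGD.T_le_B ht)) h3) (h1 t (RGD.T_le_B ht))

/-- an automorphism of order `p ≥ 5` normalising a Sylow `r`-subgroup -/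
theorem ns_of_sylow (R : RGD cs h r T n X) [Nonempty I] [Finite W] [Finite Y] [IsSimpleGroup Y] [Fact r.Prime]
    (hr2 : r ≠ 2) (hG : Nodes.RGDLib.G1 cs h X = ⊤) (hconn : Conn M) (hnode : ∀ i, NodeOK T X i) {p : ℕ}
    [Fact p.Prime] (hp : 5 ≤ p) {x : MulAut Y} (hx : orderOf x = p) {U : Sylow r Y}
    (hU : ∀ u ∈ (U : Subgroup Y), x u ∈ (U : Subgroup Y)) : NS x := by
  classical
  have hr : r.Prime := Fact.out
  have hgen := Nodes.RGDLib.rgd_gen_of_G1 R hG
  have hne : (R.bnPair hgen).S.Nonempty := by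
    obtain ⟨i⟩ := (inferInstance : Nonempty I)
    exact ⟨n i, i, rfl⟩
  have S := FixBN.SplitRGD.split_of_rgd hr R hgen (Cfsg.Agent.Tits.OfBN.normalCore_eq_bot (R.bnPair hgen) hne)
  obtain ⟨U', hU'⟩ := H459.RgdRad.exists_sylow S
  obtain ⟨g, hg⟩ := MulAction.exists_smul_eq Y U' U
  have hmem : ∀ a : Y, a ∈ RGD.Sup X (RGD.Pos cs h) ↔ g * a * g⁻¹ ∈ (U : Subgroup Y) := by
    intro a
    rw [← hU', ← hg, Sylow.coe_subgroup_smul, Subgroup.mem_pointwise_smul_iff_inv_smul_mem]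
    have e : (MulAut.conj g)⁻¹ • (g * a * g⁻¹) = a := by
      rw [← map_inv, MulAut.smul_def, MulAut.conj_apply]
      group
    rw [e]
  have h1 : Iv (cx x g) (RGD.Sup X (RGD.Pos cs h)) := by
    intro a ha
    rw [hmem] at ha ⊢
    have h2 := hU _ ha
    rw [cx_apply]
    have e : g * (g⁻¹ * x (g * a * g⁻¹) * g) * g⁻¹ = x (g * a * g⁻¹) := by group
    rwa [e]
  have h2 : Iv (cx x g) (RGD.B cs h T X) := by
    have h3 := H748.Inv.iv_normalizer h1
    rw [S.normalizer_eq] at h3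
    exact h3
  exact ns_of_cx (g := g) (ns_of_borel R hr2 hG hconn hnode hp ((orderOf_cx x g).trans hx) h2)

/-- a component of rank one of the Levi factor -/
theorem ns_of_single (R : RGD cs h r T n X) [Finite W] [Finite Y] [Fact r.Prime] (hr2 : r ≠ 2) {p : ℕ} [Fact p.Prime]
    (hp : 5 ≤ p) {J : Set I} {i : I} (hiJ : i ∈ J) (ho : Orth A {i} (J \ {i})) (hi : NodeOK T X i) {y : Y}
    (hyP : y ∈ PJ cs h T X J) (hyo : orderOf (MulAut.conj y) = p)
    (hmax : ∀ V : Subgroup Y, IsPGroup r V → VJ cs h X J ≤ V → Iv (MulAut.conj y) V → V = VJ cs h X J) :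
    NS (MulAut.conj y) := by
  have hKN := LJ_le_normalizer_comp R (Set.singleton_subset_iff.2 hiJ) ho
  have hyN := PJ_le_normalizer_MV R hKN _ hyP
  refine H910.Inv.ns_of_node R hr2 hp hi hyo hiJ hyN ?_ ?_
  · exact fun c hc => (Subgroup.mem_normalizer_iff.1 (PJ_le_normalizer_VJ R J hyP) c).1 hc
  by_contra hcon
  push Not at hcon
  obtain ⟨l, hl, v, hv, rfl⟩ := (mem_PJ R).1 hyP
  have hKL : MJ cs h X {i} ≤ LJ cs h T X J :=
    (RGD.Sup_mono fun x hx => ⟨hx.1, fun k hk => hx.2 k fun hk' => hk (by rw [hk']; exact hiJ)⟩ :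
      MJ cs h X {i} ≤ MJ cs h X J).trans (MJ_le_LJ J)
  have hlV : ∀ c ∈ VJ cs h X J, l * c * l⁻¹ ∈ VJ cs h X J := fun c hc =>
    (Subgroup.mem_normalizer_iff.1 (LJ_le_normalizer_VJ R J hl) c).1 hc
  have hQ := eq_bot_of_max R hl hv hmax (Q := MJ cs h X {i} ⊓ RGD.Sup X (RGD.Pos cs h))
    (inf_le_left.trans hKL) (R.isPGroup_Upos.to_le inf_le_right) (by
      rintro a ⟨ha, haU⟩
      have h1 : l * a * l⁻¹ ∈ MJ cs h X {i} := (Subgroup.mem_normalizer_iff.1 (hKN hl) a).1 ha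
      refine ⟨h1, ?_⟩
      have h2 := hcon a (Subgroup.mem_sup_left ha)
      rw [MulAut.conj_apply] at h2
      have h3 : a⁻¹ * v * a ∈ VJ cs h X J := by
        have := (Subgroup.mem_normalizer_iff.1 (LJ_le_normalizer_VJ R J (inv_mem (hKL ha))) v).1 hv
        rwa [inv_inv] at this
      have h4 : l * (a⁻¹ * v * a * v⁻¹) * l⁻¹ ∈ VJ cs h X J := hlV _ (mul_mem h3 (inv_mem hv))
      have h5 : l * a * l⁻¹ ∈ RGD.B cs h T X := by
        have e : l * a * l⁻¹ = a * (a⁻¹ * (l * v * a * (l * v)⁻¹)) * (l * (a⁻¹ * v * a * v⁻¹) * l⁻¹)⁻¹ := by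
          group
        rw [e]
        exact mul_mem (mul_mem (RGD.U_le_B haU) h2) (inv_mem (VJ_le_B J h4))
      obtain ⟨k, hk⟩ := R.isPGroup_Upos ⟨a, haU⟩
      have h6 : a ^ r ^ k = 1 := by simpa using congrArg Subtype.val hk
      exact R.mem_U_of_mem_B h5 (k := k) (by rw [conj_pow, h6]; group))
  obtain ⟨u, hu, hu1⟩ := exists_ne_one R i
  have h7 : u ∈ MJ cs h X {i} ⊓ RGD.Sup X (RGD.Pos cs h) :=
    ⟨RGD.le_Sup (PosJ_subset {i} (sr_mem_PosJ (Set.mem_singleton i))) hu,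
      RGD.le_Sup (S := RGD.Pos cs h) ⟨isRoot_sr cs h i, sr_nonneg i⟩ hu⟩
  rw [hQ, Subgroup.mem_bot] at h7
  exact hu1 h7

end

/-- **The row of a group with `DatOK`.** -/
theorem ns_of_dat {r p : ℕ} [Fact r.Prime] [Fact p.Prime] (hr2 : r ≠ 2) (hp : 5 ≤ p) {Y : Type u} [Group Y]
    [Finite Y] [IsSimpleGroup Y] (hD : DatOK r p Y) (hI : IH.{u} p (Nat.card Y))
    (hout : ∀ x : MulAut Y, orderOf x = p → (∃ y, x = MulAut.conj y) ∨
      ∃ U : Sylow r Y, ∀ u ∈ (U : Subgroup Y), x u ∈ (U : Subgroup Y))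
    (hnf : ∀ y : Y, orderOf (MulAut.conj y) = p → ¬ FixR r (MulAut.conj y) → NS (MulAut.conj y)) : IRow p Y := by
  obtain ⟨l, M, A, h, T, n, X, R, F, hl, hW, hG, hF, hconn, hT, hnode, hcomp⟩ := hD
  have hr : r.Prime := Fact.out
  have : Nonempty (Fin l) := ⟨⟨0, by omega⟩⟩
  intro x hx
  rcases hout x hx with ⟨y, rfl⟩ | ⟨U, hU⟩
  swap
  · exact ns_of_sylow R hr2 hG hconn hnode hp hx hU
  by_cases hfix : FixR r (MulAut.conj y)
  swap
  · exact hnf y hx hfix
  have hBT : BT M.toCoxeterSystem h r T X := fun K hK hK1 => borel_tits_of_filt hF hG hK hK1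
  have hGG : GG M.toCoxeterSystem h T X = ⊤ := H459.Inv.NodeX.GG_eq_top hG
  have hperf : commutator Y = ⊤ := by
    have h1 : (commutator Y).Normal := inferInstance
    rcases h1.eq_bot_or_eq_top with h2 | h2
    · exfalso
      -- an abelian simple group has no root group datum
      have hc : ∀ a b : Y, a * b = b * a := by
        intro a b
        have h3 : ⁅a, b⁆ ∈ commutator Y := Subgroup.commutator_mem_commutator trivial trivial
        rw [h2, Subgroup.mem_bot] at h3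
        exact commutatorElement_eq_one_iff_mul_comm.1 h3
      obtain ⟨i⟩ := (inferInstance : Nonempty (Fin l))
      apply n_not_mem_PJ R (J := ∅) (i := i) (Set.notMem_empty i)
      rw [← normalizer_VJ R]
      refine Subgroup.mem_inf.2 ⟨?_, by rw [hGG]; trivial⟩
      rw [Subgroup.mem_normalizer_iff]
      intro a
      rw [hc (n i) a, mul_inv_cancel_right]
    · exact h2
  have hnp : ¬ IsPGroup r Y := by
    intro h1
    have h2 : Group.IsNilpotent Y := h1.isNilpotent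
    have h3 : Group.IsSolvable Y := inferInstance
    exact (Group.IsSolvable.commutator_lt_top_of_nontrivial (G := Y)).ne hperf
  have hns : ∀ V : Subgroup Y, V ≠ ⊥ → V ≠ ⊤ → Subgroup.normalizer (V : Set Y) ≠ ⊤ := by
    intro V h1 h2 h3
    have h4 : V.Normal := Subgroup.normalizer_eq_top_iff.1 h3
    rcases h4.eq_bot_or_eq_top with h5 | h5
    · exact h1 h5
    · exact h2 h5
  obtain ⟨g, J, hJ, hV, hP, hmax⟩ := H748.Inv.exists_min_par R hBT hns hnp hfix
  refine ns_of_cx (g := g) ?_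
  have ho := (orderOf_cx (MulAut.conj y) g).trans hx
  rw [cx_conj] at hV hP hmax ho ⊢
  set y' := g⁻¹ * y * g with hy'
  have hyP : y' ∈ PJ M.toCoxeterSystem h T X J := by
    rw [← normalizer_VJ R, hGG, inf_top_eq, Subgroup.mem_normalizer_iff_map_conj_eq]
    exact hV.map_eq
  rcases J.eq_empty_or_nonempty with rfl | hJn
  · rw [PJ_empty R] at hP
    exact ns_of_borel R hr2 hG hconn hnode hp ho hP
  obtain ⟨K, hKJ, hKn, hKc, hK2⟩ := exists_comp (M := M) hJn
  have hK2' : Orth A K (J \ K) := orth_of_two h (fun a ha hb => hb.2 ha) fun a ha b hb => hK2 a ha b hb.1 hb.2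
  rcases K.subsingleton_or_nontrivial with hKs | hKnt
  · obtain ⟨i, hi⟩ := hKn
    have hKi : K = {i} := Set.Subsingleton.eq_singleton_of_mem hKs hi
    subst hKi
    exact ns_of_single R hr2 hp (hKJ hi) hK2' (hnode i) hyP ho hmax
  · have hKu : K ≠ Set.univ := fun e => hJ (Set.eq_univ_of_univ_subset (e ▸ hKJ))
    have hC := hcomp K hKu hKnt hKc
    obtain ⟨f1, f2, f3, f4, f5⟩ := H35.Inv.comp_facts_set R hF hT hKn hKc hC.1
    have hyp : y' ^ p = 1 := by
      have h1 : MulAut.conj (y' ^ p) = 1 := by rw [map_pow, ← ho, pow_orderOf_eq_one]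
      have h2 : y' ^ p ∈ Subgroup.center Y := by
        rw [Subgroup.mem_center_iff]
        intro b
        have h3 : MulAut.conj (y' ^ p) b = b := by rw [h1]; rfl
        rw [MulAut.conj_apply] at h3
        calc b * y' ^ p = (y' ^ p * b * (y' ^ p)⁻¹) * y' ^ p := by rw [h3]
          _ = _ := by group
      have h3 : Subgroup.center Y = ⊥ := by
        have h4 : (Subgroup.center Y).Normal := inferInstance
        rcases h4.eq_bot_or_eq_top with h5 | h5
        · exact h5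
        · exfalso
          have h6 : commutator Y = ⊥ := by
            rw [eq_bot_iff, commutator_def, Subgroup.commutator_le]
            intro a _ b _
            rw [Subgroup.mem_bot, commutatorElement_eq_one_iff_mul_comm]
            have : b ∈ Subgroup.center Y := by rw [h5]; trivial
            exact Subgroup.mem_center_iff.1 this a
          rw [hperf] at h6
          exact bot_ne_top h6.symm
      rw [h3, Subgroup.mem_bot] at h2
      exact h2
    exact ns_of_comp R hr2 hp hJ hKJ hK2' f1 f2 f3 f4 f5 hC hI hyP hyp hmax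

end Cfsg.Agent.H255.Inv
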