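import Mathlib
import Cfsg.Agent.H292.S38.Chev
import Cfsg.Agent.H973.Inv.TwNode
import Cfsg.Agent.OddHalf.Small.ChevCent

/-!
# The torus of `²E₆(q)` acts on the Levi components (helper255, S3830, piece O9c)

`comp_tor_twE6` : `t ^ 12`, `t` in the torus, acts on `M_J` as an element of `M_J`.
-/

set_option autoImplicit false
set_option linter.unusedSectionVars false

namespace Cfsg.Agent.H255.Inv.TwTor

open CoxeterSystem Cfsg Cfsg.Lie Cfsg.Lie.ChevalleyDatum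
open Cfsg.Agent.ChevalleyStructure Cfsg.Agent.ChevalleyStructure.Elts Cfsg.Agent.ChevalleyStructure.CoxeterGeom
  Cfsg.Agent.ChevalleyStructure.CoxeterGeomTypes Cfsg.Agent.ChevalleyStructure.NPerm
open Cfsg.Agent.Tits.Roots Cfsg.Agent.Tits.Core Cfsg.Agent.Nodes Cfsg.Agent.Nodes.Reps Cfsg.Agent.Nodes.BNOf
  Cfsg.Agent.Nodes.RGDChev Cfsg.Agent.Nodes.Bruhat Cfsg.Agent.Nodes.StabComb Cfsg.Agent.Nodes.OppDec
  Cfsg.Agent.Nodes.FreeTorus Cfsg.Agent.H53.HC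
open Cfsg.Agent.BpExc.FamTw.Tor (hG_conj exists_c eq_of_act)
open Cfsg.Agent.H153.Exc (hP list_act hP_act hP_mem)
open Cfsg.Agent.ChevalleyStructure.SL2Hom (up lo)
open Cfsg.Agent.H292.S38.Tor Cfsg.Agent.H292.S38.Tab Cfsg.Agent.H292.S38.Chev
open Cfsg.Agent.Nodes.RGDFold Cfsg.Agent.Nodes.RGDFoldSL
open Cfsg.Agent.ChevalleyStructure.TwE6Basic (sg)

universe u

/-! ### tables -/

/-- the graph automorphism on the simple roots -/
def rk : Fin 6 → Fin 6 := ![5, 1, 4, 3, 2, 0]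

/-- the block of a simple root -/
def blk : Fin 6 → Fin 4 := ![3, 0, 2, 1, 2, 3]

/-- `12` times the inverses of the Cartan matrices of the unions of blocks -/
def tab : List (List (List ℤ)) := [
  [[0, 0, 0, 0, 0, 0], [0, 0, 0, 0, 0, 0], [0, 0, 0, 0, 0, 0], [0, 0, 0, 0, 0, 0], [0, 0, 0, 0, 0, 0], [0, 0, 0, 0, 0, 0]],
  [[0, 0, 0, 0, 0, 0], [0, 6, 0, 0, 0, 0], [0, 0, 0, 0, 0, 0], [0, 0, 0, 0, 0, 0], [0, 0, 0, 0, 0, 0], [0, 0, 0, 0, 0, 0]],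
  [[0, 0, 0, 0, 0, 0], [0, 0, 0, 0, 0, 0], [0, 0, 0, 0, 0, 0], [0, 0, 0, 6, 0, 0], [0, 0, 0, 0, 0, 0], [0, 0, 0, 0, 0, 0]],
  [[0, 0, 0, 0, 0, 0], [0, 8, 0, 4, 0, 0], [0, 0, 0, 0, 0, 0], [0, 4, 0, 8, 0, 0], [0, 0, 0, 0, 0, 0], [0, 0, 0, 0, 0, 0]],
  [[0, 0, 0, 0, 0, 0], [0, 0, 0, 0, 0, 0], [0, 0, 6, 0, 0, 0], [0, 0, 0, 0, 0, 0], [0, 0, 0, 0, 6, 0], [0, 0, 0, 0, 0, 0]],
  [[0, 0, 0, 0, 0, 0], [0, 6, 0, 0, 0, 0], [0, 0, 6, 0, 0, 0], [0, 0, 0, 0, 0, 0], [0, 0, 0, 0, 6, 0], [0, 0, 0, 0, 0, 0]],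
  [[0, 0, 0, 0, 0, 0], [0, 0, 0, 0, 0, 0], [0, 0, 9, 6, 3, 0], [0, 0, 6, 12, 6, 0], [0, 0, 3, 6, 9, 0], [0, 0, 0, 0, 0, 0]],
  [[0, 0, 0, 0, 0, 0], [0, 12, 6, 12, 6, 0], [0, 6, 12, 12, 6, 0], [0, 12, 12, 24, 12, 0], [0, 6, 6, 12, 12, 0], [0, 0, 0, 0, 0, 0]],
  [[6, 0, 0, 0, 0, 0], [0, 0, 0, 0, 0, 0], [0, 0, 0, 0, 0, 0], [0, 0, 0, 0, 0, 0], [0, 0, 0, 0, 0, 0], [0, 0, 0, 0, 0, 6]],
  [[6, 0, 0, 0, 0, 0], [0, 6, 0, 0, 0, 0], [0, 0, 0, 0, 0, 0], [0, 0, 0, 0, 0, 0], [0, 0, 0, 0, 0, 0], [0, 0, 0, 0, 0, 6]],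
  [[6, 0, 0, 0, 0, 0], [0, 0, 0, 0, 0, 0], [0, 0, 0, 0, 0, 0], [0, 0, 0, 6, 0, 0], [0, 0, 0, 0, 0, 0], [0, 0, 0, 0, 0, 6]],
  [[6, 0, 0, 0, 0, 0], [0, 8, 0, 4, 0, 0], [0, 0, 0, 0, 0, 0], [0, 4, 0, 8, 0, 0], [0, 0, 0, 0, 0, 0], [0, 0, 0, 0, 0, 6]],
  [[8, 0, 4, 0, 0, 0], [0, 0, 0, 0, 0, 0], [4, 0, 8, 0, 0, 0], [0, 0, 0, 0, 0, 0], [0, 0, 0, 0, 8, 4], [0, 0, 0, 0, 4, 8]],
  [[8, 0, 4, 0, 0, 0], [0, 6, 0, 0, 0, 0], [4, 0, 8, 0, 0, 0], [0, 0, 0, 0, 0, 0], [0, 0, 0, 0, 8, 4], [0, 0, 0, 0, 4, 8]],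
  [[10, 0, 8, 6, 4, 2], [0, 0, 0, 0, 0, 0], [8, 0, 16, 12, 8, 4], [6, 0, 12, 18, 12, 6], [4, 0, 8, 12, 16, 8], [2, 0, 4, 6, 8, 10]],
  [[16, 12, 20, 24, 16, 8], [12, 24, 24, 36, 24, 12], [20, 24, 40, 48, 32, 16], [24, 36, 48, 72, 48, 24], [16, 24, 32, 48, 40, 20], [8, 12, 16, 24, 20, 16]]]

/-- the number of a set of blocks -/
def bit (b : Fin 4 → Bool) : ℕ := (bif b 0 then 1 else 0) + (bif b 1 then 2 else 0) + (bif b 2 then 4 else 0) +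
  (bif b 3 then 8 else 0)

/-- `12` times the inverse of the Cartan matrix of a union of blocks -/
def Bm (b : Fin 4 → Bool) (i j : Fin 6) : ℤ := ((tab.getD (bit b) []).getD i []).getD j 0

theorem Bm_supp : ∀ (b : Fin 4 → Bool) (i j : Fin 6), Bm b i j ≠ 0 → b (blk i) = true ∧ b (blk j) = true := by
  decide +kernel

theorem Bm_mul : ∀ (b : Fin 4 → Bool) (i k : Fin 6), b (blk i) = true → b (blk k) = true →
    ∑ j : Fin 6, Bm b i j * cartanOf chevE6 6 j k = if i = k then ((12 : ℕ) : ℤ) else 0 := by decide +kernel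

theorem Bm_rk : ∀ (b : Fin 4 → Bool) (i j : Fin 6), Bm b (rk i) (rk j) = Bm b i j := by decide +kernel

theorem vec_zero : ∀ r < 72, ∀ j : Fin 6, V chevE6 Nodes.RGDTwE6.J r (blk j) = 0 → RGDChev.vec chevE6 6 r j = 0 := by
  decide +kernel

theorem rho_simple : ∀ j : Fin 6, TwistedE6Sigma.rho (chevE6.simple j) = chevE6.simple (rk j) := by decide +kernel

theorem eps_simple : ∀ j : Fin 6, TwistedE6Sigma.eps (chevE6.simple j) = 1 := by decide +kernel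

theorem simple_mem : ∀ j : Fin 6, chevE6.simple j ∈ TwistedE6U.L.flatten := by decide +kernel

theorem rk_rk : ∀ j, rk (rk j) = j := by decide +kernel

/-! ### the action on the ambient Levi subgroup -/

section Act

variable {D : ChevalleyDatum} {l : ℕ} {M : CoxeterMatrix (Fin l)} (hp : IsType D l M) {F : Type u} [Field F]
  {W : Type*} [Group W] (cs : CoxeterSystem M W)

theorem act_hP {J : Set (Fin l)} {d : ℕ} {B : Fin l → Fin l → ℤ} (hB0 : ∀ i j, B i j ≠ 0 → i ∈ J ∧ j ∈ J)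
    (hB : ∀ i ∈ J, ∀ k ∈ J, ∑ j : Fin l, B i j * cartanOf D l j k = if i = k then (d : ℤ) else 0)
    {c b e : Fin l → F} (hc : ∀ j, c j ≠ 0) (hb' : ∀ k, b k = ∏ j : Fin l, c j ^ cartanOf D l j k)
    (he' : ∀ j, e j = ∏ i, b i ^ B i j) :
    ∀ a ∈ MJ cs hp.isCartan (XV D l F) J,
      hP hp.inList l c ^ d * a * (hP hp.inList l c ^ d)⁻¹ = hP hp.inList l e * a * (hP hp.inList l e)⁻¹ := by
  have hb : ∀ k, b k ≠ 0 := fun k => by rw [hb']; exact Finset.prod_ne_zero_iff.2 fun j _ => zpow_ne_zero _ (hc j)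
  have he : ∀ j, e j ≠ 0 := fun j => by rw [he']; exact Finset.prod_ne_zero_iff.2 fun i _ => zpow_ne_zero _ (hb i)
  have hcd : ∀ j, c j ^ d ≠ 0 := fun j => pow_ne_zero _ (hc j)
  have key : MJ cs hp.isCartan (XV D l F) J ≤
      Subgroup.centralizer {(hP hp.inList l e)⁻¹ * hP hp.inList l c ^ d} := by
    refine RGD.Sup_le fun x hx => ?_
    obtain ⟨s, hs, rfl⟩ := (isRoot_iff hp cs x).1 hx.1
    rw [XV_vec hp F hs]
    intro g hg
    obtain ⟨a, rfl⟩ := (mem_rootSubgroup_iff hp.inList s g).1 hg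
    have h1 : hP hp.inList l c ^ d * xG hp.inList s a * (hP hp.inList l c ^ d)⁻¹ =
        hP hp.inList l e * xG hp.inList s a * (hP hp.inList l e)⁻¹ := by
      rw [hP_pow hp hc, hP_act hp _ hcd hs, hP_act hp _ he hs, char_eq hp hcd hs, char_eq hp he hs]
      congr 2
      refine Finset.prod_congr rfl fun k _ => ?_
      by_cases hk : k ∈ J
      · congr 1
        have h2 : ∏ j : Fin l, e j ^ cartanOf D l j k = b k ^ d := by
          rw [← prod_B hB0 hB hb hk]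
          exact Finset.prod_congr rfl fun j _ => by rw [he']
        rw [h2, hb', ← Finset.prod_pow]
        refine Finset.prod_congr rfl fun j _ => ?_
        rw [← zpow_natCast, ← zpow_natCast, ← zpow_mul, ← zpow_mul, mul_comm]
      · rw [hx.2 k hk, zpow_zero, zpow_zero]
    rw [Subgroup.mem_centralizer_singleton_iff]
    calc xG hp.inList s a * ((hP hp.inList l e)⁻¹ * hP hp.inList l c ^ d)
        = (hP hp.inList l e)⁻¹ * (hP hp.inList l e * xG hp.inList s a * (hP hp.inList l e)⁻¹) *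
          hP hp.inList l c ^ d := by group
      _ = (hP hp.inList l e)⁻¹ * (hP hp.inList l c ^ d * xG hp.inList s a * (hP hp.inList l c ^ d)⁻¹) *
          hP hp.inList l c ^ d := by rw [h1]
      _ = (hP hp.inList l e)⁻¹ * hP hp.inList l c ^ d * xG hp.inList s a := by group
  intro a ha
  have h2 := Subgroup.mem_centralizer_singleton_iff.1 (key ha)
  calc hP hp.inList l c ^ d * a * (hP hp.inList l c ^ d)⁻¹
      = hP hp.inList l e * (((hP hp.inList l e)⁻¹ * hP hp.inList l c ^ d) * a) * (hP hp.inList l c ^ d)⁻¹ := by group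
    _ = hP hp.inList l e * (a * ((hP hp.inList l e)⁻¹ * hP hp.inList l c ^ d)) * (hP hp.inList l c ^ d)⁻¹ := by
      rw [h2]
    _ = hP hp.inList l e * a * (hP hp.inList l e)⁻¹ := by group

end Act

/-! ### the twisted group -/

theorem six {Γ : Type*} [Group Γ] {a b c d e f : Γ} (h1 : e * f = f * e) (h2 : d * f = f * d) (h3 : c * f = f * c)
    (h4 : b * f = f * b) (h5 : d * e = e * d) :
    a * (b * (c * (d * (e * (f * 1))))) = (a * (f * 1)) * ((b * 1) * ((c * (e * 1)) * (d * 1))) := by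
  simp only [mul_one]
  calc a * (b * (c * (d * (e * f)))) = a * (b * (c * ((d * f) * e))) := by rw [h1]; group
    _ = a * (b * ((c * f) * (d * e))) := by rw [h2]; group
    _ = a * ((b * f) * (c * (d * e))) := by rw [h3]; group
    _ = a * (f * (b * (c * (e * d)))) := by rw [h4, h5]; group
    _ = _ := by group

section Tw

variable {K : Type u} [Field K] {q : ℕ} {φ : K →+* K}

/-- the elements of the Levi subgroups of `²E₆(q)` lie in the Levi subgroups of `E₆(K)` -/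
theorem coe_mem_MJ [Fintype K] (hφ : ∀ x, φ x = x ^ q) (hqq : ∀ t : K, (t ^ q) ^ q = t) (J : Set (Fin 4))
    {a : ↥(twistedE6 K q)}
    (ha : a ∈ MJ CoxeterMatrix.F₄.toCoxeterSystem Nodes.RGDTwE6.isCartan (Nodes.RGDTwE6.X φ q) J) :
    (a : GL chevE6.Idx K) ∈ MJ CoxeterMatrix.E₆.toCoxeterSystem Nodes.RGDTwE6.hp.isCartan (XV chevE6 6 K)
      {j | blk j ∈ J} := by
  have key : MJ CoxeterMatrix.F₄.toCoxeterSystem Nodes.RGDTwE6.isCartan (Nodes.RGDTwE6.X φ q) J ≤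
      (MJ CoxeterMatrix.E₆.toCoxeterSystem Nodes.RGDTwE6.hp.isCartan (XV chevE6 6 K) {j | blk j ∈ J}).comap
        (twistedE6 K q).subtype := by
    refine RGD.Sup_le fun z hz g hg => ?_
    have h1 : (g : GL chevE6.Idx K) ∈ Cfsg.Agent.ChevalleyStructure.TwistedU.rspan
        (xG Nodes.RGDTwE6.hp.inList) {k | k < chevE6.nroots ∧ V chevE6 Nodes.RGDTwE6.J k = z} := (Subgroup.mem_subgroupOf.1 hg).1
    show (g : GL chevE6.Idx K) ∈ MJ CoxeterMatrix.E₆.toCoxeterSystem Nodes.RGDTwE6.hp.isCartan (XV chevE6 6 K)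
      {j | blk j ∈ J}
    refine Cfsg.Agent.ChevalleyStructure.TwistedU.rspan_le (xG Nodes.RGDTwE6.hp.inList) ?_ h1
    rintro k ⟨hk, rfl⟩ t
    have h2 : RGDChev.vec chevE6 6 k ∈ RootsJ CoxeterMatrix.E₆.toCoxeterSystem Nodes.RGDTwE6.hp.isCartan
        {j | blk j ∈ J} := by
      refine ⟨(isRoot_iff Nodes.RGDTwE6.hp _ _).2 ⟨k, hk, rfl⟩, fun j hj => ?_⟩
      exact vec_zero k hk j (hz.2 _ hj)
    refine RGD.le_Sup h2 ?_
    rw [XV_vec Nodes.RGDTwE6.hp K hk]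
    exact xG_mem_rootSubgroup _ _ _
  exact key ha

/-- the characters of a torus element fixed by `σ` -/
theorem char_rk [Fintype K] (hφ : ∀ x, φ x = x ^ q) (hqq : ∀ t : K, (t ^ q) ^ q = t) {c : Fin 6 → K}
    (hc : ∀ j, c j ≠ 0) (hG : hP Nodes.RGDTwE6.hp.inList 6 c ∈ twistedE6 K q) (k : Fin 6) :
    ∏ j : Fin 6, c j ^ cartanOf chevE6 6 j (rk k) = φ (∏ j : Fin 6, c j ^ cartanOf chevE6 6 j k) := by
  have FG := Nodes.RGDTwE6.foldGrp hφ hqq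
  have hfix : sg φ (hP Nodes.RGDTwE6.hp.inList 6 c) = hP Nodes.RGDTwE6.hp.inList 6 c := FG.G_le hG
  have hlt : ∀ j : Fin 6, chevE6.simple j < chevE6.nroots := fun j =>
    simple_lt Nodes.RGDTwE6.hp.inList (lt_rank Nodes.RGDTwE6.hp j)
  have hs : ∀ (j : Fin 6) (u : K), sg φ (xG Nodes.RGDTwE6.hp.inList (chevE6.simple j) u) =
      xG Nodes.RGDTwE6.hp.inList (chevE6.simple (rk j)) (φ u) := by
    intro j u
    have h1 := FG.setup.hσ _ (simple_mem j) u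
    rw [rho_simple, eps_simple, Int.cast_one, one_mul] at h1
    exact h1
  have h1 := hP_act Nodes.RGDTwE6.hp c hc (hlt k) 1
  have h2 := congrArg (sg φ) h1
  rw [map_mul, map_mul, map_inv, hfix, hs, hs, map_one, hP_act Nodes.RGDTwE6.hp c hc (hlt (rk k)), mul_one,
    mul_one] at h2
  exact xG_injective Nodes.RGDTwE6.hp.inList (hlt (rk k)) h2

open Cfsg.Agent.Nodes.RGDTwNode in
theorem hf_one (i : Fin 4) : ∀ s ∈ E6.rep i :: E6.rest i, ∀ t : K,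
    (((TwistedE6Sigma.eps s : ℤ) : K) * φ t) = φ t := fun s hs t => by
  rw [E6.eps_one i s hs, Int.cast_one, one_mul]

open Cfsg.Agent.Nodes.RGDTwNode in
/-- the torus elements of the nodes lie in `⟨X_i, X_{-i}⟩` -/
theorem Phi_mem [Fintype K] (hφ : ∀ x, φ x = x ^ q) (hqq : ∀ t : K, (t ^ q) ^ q = t) {J : Set (Fin 4)} {i : Fin 4}
    (hi : i ∈ J) (g : Matrix.SpecialLinearGroup (Fin 2) (Fx φ ((E6.rest i).length + 1))) :
    Phi (Nodes.RGDTwE6.foldGrp hφ hqq) (E6.nodeOK i) (hf_one i) g ∈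
      MJ CoxeterMatrix.F₄.toCoxeterSystem Nodes.RGDTwE6.isCartan (Nodes.RGDTwE6.X φ q) J := by
  obtain ⟨p, hp'⟩ := CharP.exists K
  have : Fact p.Prime := ⟨CharP.char_is_prime K p⟩
  have R := Nodes.RGDTwE6.rgd (K := K) CoxeterMatrix.F₄.toCoxeterSystem hφ hqq p
  have FG := Nodes.RGDTwE6.foldGrp hφ hqq
  have hsr : sr i ∈ RootsJ CoxeterMatrix.F₄.toCoxeterSystem Nodes.RGDTwE6.isCartan J :=
    PosJ_subset J (sr_mem_PosJ hi)
  set MM := MJ CoxeterMatrix.F₄.toCoxeterSystem Nodes.RGDTwE6.isCartan (Nodes.RGDTwE6.X φ q) J with hMM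
  have hup : ∀ a, Phi FG (E6.nodeOK i) (hf_one i) (up a) ∈ Nodes.RGDTwE6.X φ q (sr i) := fun a =>
    (mem_X_iff FG (E6.nodeOK i) (hf_one i) _).2 ⟨a, rfl⟩
  have hlo : ∀ a, Phi FG (E6.nodeOK i) (hf_one i) (lo a) ∈ Nodes.RGDTwE6.X φ q (-sr i) := by
    intro a
    have h1 := R.conj i _ (isRoot_sr CoxeterMatrix.F₄.toCoxeterSystem Nodes.RGDTwE6.isCartan i)
    rw [rep_simple_sr] at h1
    rw [← h1, lo_eq, map_mul, map_mul, map_inv, Phi_wS]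
    exact conj_mem_cj.2 (hup _)
  have h2 : (Subgroup.closure (Set.range (up (F := Fx φ ((E6.rest i).length + 1))) ∪
      Set.range (lo (F := Fx φ ((E6.rest i).length + 1))))) ≤ MM.comap (Phi FG (E6.nodeOK i) (hf_one i)) := by
    rw [Subgroup.closure_le]
    rintro _ (⟨a, rfl⟩ | ⟨a, rfl⟩)
    · exact RGD.le_Sup hsr (hup a)
    · exact RGD.le_Sup (RootsJ.neg hsr) (hlo a)
  exact h2 (Cfsg.Agent.ChevalleyStructure.SL2Hom.mem_closure_SL2 g)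

theorem hS_one {F : Type*} [Field F] : (hS (1 : F) : Matrix.SpecialLinearGroup (Fin 2) F) = 1 := by
  apply Subtype.ext
  rw [coe_hS one_ne_zero, Matrix.SpecialLinearGroup.coe_one, Matrix.one_fin_two, inv_one]

open Cfsg.Agent.Nodes.RGDTwNode in
theorem coe_Phi_hS [Fintype K] (hφ : ∀ x, φ x = x ^ q) (hqq : ∀ t : K, (t ^ q) ^ q = t) (i : Fin 4)
    (d : Fx φ ((E6.rest i).length + 1)) :
    ((Phi (Nodes.RGDTwE6.foldGrp hφ hqq) (E6.nodeOK i) (hf_one i) (hS d) : ↥(twistedE6 K q)) :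
      GL chevE6.Idx K) = hv (psi Nodes.RGDTwE6.hp.inList K) φ (E6.rep i :: E6.rest i) (hS (d : K)) := by
  show Ph Nodes.RGDTwE6.hp K (E6.nodeOK i) φ (Matrix.SpecialLinearGroup.map _ (hS d)) = _
  rw [map_hS]
  rfl

open Cfsg.Agent.Nodes.RGDTwNode in
/-- **The torus of `²E₆(q)` acts on the Levi components by inner automorphisms up to the exponent `12`.** -/
theorem exists_inner [Fintype K] (hφ : ∀ x, φ x = x ^ q) (hqq : ∀ t : K, (t ^ q) ^ q = t) (J : Set (Fin 4)) :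
    ∀ t ∈ Nodes.RGDTwE6.T K q,
      ∃ s ∈ MJ CoxeterMatrix.F₄.toCoxeterSystem Nodes.RGDTwE6.isCartan (Nodes.RGDTwE6.X φ q) J,
      ∀ a ∈ MJ CoxeterMatrix.F₄.toCoxeterSystem Nodes.RGDTwE6.isCartan (Nodes.RGDTwE6.X φ q) J,
        t ^ 12 * a * (t ^ 12)⁻¹ = s * a * s⁻¹ := by
  classical
  rintro ⟨t, htG⟩ ht
  have htD : t ∈ chevE6.diagonalSubgroup K := (Subgroup.mem_subgroupOf.1 ht).1
  obtain ⟨c, hc, rfl⟩ := exists_hP Nodes.RGDTwE6.hp htD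
  obtain ⟨b, hbd⟩ : ∃ b : Fin 6 → K, ∀ k, b k = ∏ j : Fin 6, c j ^ cartanOf chevE6 6 j k := ⟨_, fun _ => rfl⟩
  obtain ⟨β, hβ⟩ : ∃ β : Fin 4 → Bool, ∀ i, β i = true ↔ i ∈ J := ⟨fun i => decide (i ∈ J), fun i => by simp⟩
  obtain ⟨e, hed⟩ : ∃ e : Fin 6 → K, ∀ j, e j = ∏ i, b i ^ Bm β i j := ⟨_, fun _ => rfl⟩
  have hb : ∀ k, b k ≠ 0 := fun k => by
    rw [hbd]; exact Finset.prod_ne_zero_iff.2 fun j _ => zpow_ne_zero _ (hc j)
  have he : ∀ j, e j ≠ 0 := fun j => by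
    rw [hed]; exact Finset.prod_ne_zero_iff.2 fun i _ => zpow_ne_zero _ (hb i)
  have hbr : ∀ k, b (rk k) = φ (b k) := fun k => by
    rw [hbd, hbd]; exact char_rk hφ hqq hc htG k
  let ρ : Fin 6 ≃ Fin 6 := ⟨rk, rk, rk_rk, rk_rk⟩
  have her : ∀ j, e (rk j) = φ (e j) := by
    intro j
    rw [hed, hed, map_prod, ← Equiv.prod_comp ρ]
    refine Finset.prod_congr rfl fun i _ => ?_
    show b (rk i) ^ Bm β (rk i) (rk j) = _
    rw [map_zpow₀, ← hbr, Bm_rk]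
  have he1 : ∀ j, blk j ∉ J → e j = 1 := by
    intro j hj
    rw [hed]
    refine Finset.prod_eq_one fun i _ => ?_
    have h0 : Bm β i j = 0 := by
      by_contra h1
      exact hj ((hβ _).1 (Bm_supp β i j h1).2)
    rw [h0, zpow_zero]
  have hact := act_hP Nodes.RGDTwE6.hp CoxeterMatrix.E₆.toCoxeterSystem (J := {j | blk j ∈ J}) (d := 12)
    (B := Bm β) (fun i j h1 => ⟨(hβ _).1 (Bm_supp β i j h1).1, (hβ _).1 (Bm_supp β i j h1).2⟩)
    (fun i hi k hk => Bm_mul β i k ((hβ _).2 hi) ((hβ _).2 hk)) hc hbd hed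
  have FG := Nodes.RGDTwE6.foldGrp hφ hqq
  -- the elements of the blocks
  have key : ∀ (i : Fin 4) (j : Fin 6), blk j = i → e j ∈ Fx φ ((E6.rest i).length + 1) →
      ∃ g ∈ MJ CoxeterMatrix.F₄.toCoxeterSystem Nodes.RGDTwE6.isCartan (Nodes.RGDTwE6.X φ q) J,
        (g : GL chevE6.Idx K) = hv (psi Nodes.RGDTwE6.hp.inList K) φ (E6.rep i :: E6.rest i) (hS (e j)) := by
    intro i j hij hm
    refine ⟨Phi FG (E6.nodeOK i) (hf_one i) (hS ⟨e j, hm⟩), ?_, coe_Phi_hS hφ hqq i _⟩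
    by_cases hi : i ∈ J
    · exact Phi_mem hφ hqq hi _
    · have h1 : (⟨e j, hm⟩ : Fx φ ((E6.rest i).length + 1)) = 1 := Subtype.ext (he1 j (by rw [hij]; exact hi))
      rw [h1, hS_one, map_one]
      exact one_mem _
  have hφφ : ∀ a : K, φ (φ a) = a := fun a => by rw [hφ, hφ, hqq]
  obtain ⟨g0, hg0, h0⟩ := key 0 1 rfl (mem_Fx.2 (her 1).symm)
  obtain ⟨g1, hg1, h1⟩ := key 1 3 rfl (mem_Fx.2 (her 3).symm)
  obtain ⟨g2, hg2, h2⟩ := key 2 2 rfl (mem_Fx.2 (hφφ _))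
  obtain ⟨g3, hg3, h3⟩ := key 3 0 rfl (mem_Fx.2 (hφφ _))
  refine ⟨g3 * (g0 * (g2 * g1)), mul_mem hg3 (mul_mem hg0 (mul_mem hg2 hg1)), fun a ha => ?_⟩
  have hs : ((g3 * (g0 * (g2 * g1)) : ↥(twistedE6 K q)) : GL chevE6.Idx K) = hP Nodes.RGDTwE6.hp.inList 6 e := by
    obtain ⟨H, hH⟩ : ∃ H : Fin 6 → GL chevE6.Idx K, ∀ j, H j = hG Nodes.RGDTwE6.hp.inList (chevE6.simple j) (e j) :=
      ⟨_, fun _ => rfl⟩
    have hc : ∀ i j, H i * H j = H j * H i := fun i j => by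
      rw [hH, hH]
      exact OddHalf.Small.ChevCent.diag_comm Nodes.RGDTwE6.hp.inList
        (hG_mem_diagonal Nodes.RGDTwE6.hp.inList (simple_lt Nodes.RGDTwE6.hp.inList (lt_rank Nodes.RGDTwE6.hp i)) (he i))
        (hG_mem_diagonal Nodes.RGDTwE6.hp.inList (simple_lt Nodes.RGDTwE6.hp.inList (lt_rank Nodes.RGDTwE6.hp j)) (he j))
    have hpsi : ∀ (j : Fin 6) (r : ℕ) (u : K), r = chevE6.simple j → u = e j →
        psi Nodes.RGDTwE6.hp.inList K r (hS u) = H j := by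
      rintro j r u rfl rfl
      rw [hH, psi_hS _ (simple_lt Nodes.RGDTwE6.hp.inList (lt_rank Nodes.RGDTwE6.hp j))]
    have k0 : (g0 : GL chevE6.Idx K) = H 1 * 1 := by
      rw [h0]
      show psi Nodes.RGDTwE6.hp.inList K (E6.rep 0) (hS (e 1)) * 1 = _
      rw [hpsi 1 _ _ (by decide +kernel) rfl]
    have k1 : (g1 : GL chevE6.Idx K) = H 3 * 1 := by
      rw [h1]
      show psi Nodes.RGDTwE6.hp.inList K (E6.rep 1) (hS (e 3)) * 1 = _
      rw [hpsi 3 _ _ (by decide +kernel) rfl]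
    have k2 : (g2 : GL chevE6.Idx K) = H 2 * (H 4 * 1) := by
      rw [h2]
      show psi Nodes.RGDTwE6.hp.inList K (E6.rep 2) (hS (e 2)) *
        (psi Nodes.RGDTwE6.hp.inList K 37 (Matrix.SpecialLinearGroup.map φ (hS (e 2))) * 1) = _
      rw [map_hS, hpsi 2 _ _ (by decide +kernel) rfl, hpsi 4 _ _ (by decide +kernel) (her 2).symm]
    have k3 : (g3 : GL chevE6.Idx K) = H 0 * (H 5 * 1) := by
      rw [h3]
      show psi Nodes.RGDTwE6.hp.inList K (E6.rep 3) (hS (e 0)) *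
        (psi Nodes.RGDTwE6.hp.inList K 36 (Matrix.SpecialLinearGroup.map φ (hS (e 0))) * 1) = _
      rw [map_hS, hpsi 0 _ _ (by decide +kernel) rfl, hpsi 5 _ _ (by decide +kernel) (her 0).symm]
    have k : hP Nodes.RGDTwE6.hp.inList 6 e = H 0 * (H 1 * (H 2 * (H 3 * (H 4 * (H 5 * 1))))) := by
      rw [hH, hH, hH, hH, hH, hH]
      rfl
    rw [k, six (hc 4 5) (hc 3 5) (hc 2 5) (hc 1 5) (hc 3 4), Subgroup.coe_mul, Subgroup.coe_mul, Subgroup.coe_mul,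
      k0, k1, k2, k3]
  apply Subtype.ext
  have h4 := hact a (coe_mem_MJ hφ hqq J ha)
  rw [← hs] at h4
  exact h4

end Tw

end Cfsg.Agent.H255.Inv.TwTor
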